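import Mathlib
import Cfsg.Prelude
import Cfsg.Agent.Core.PCore

/-!
Groups in which the centralisers of involutions are 2-groups: reduction to the almost simple case.
-/

set_option autoImplicit false

namespace Cfsg.Agent.PrimeGraphCIT

open Subgroup

universe u

/-- Every centraliser of an involution is a 2-group. -/
def CIT (G : Type*) [Group G] : Prop :=
  ∀ t : G, orderOf t = 2 → IsPGroup 2 (Subgroup.centralizer ({t} : Set G))

variable {G : Type u} [Group G] [Finite G]

omit [Finite G] in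
theorem IsPGroup_two_of_orders [Finite G] (H : Subgroup G)
    (h : ∀ r : ℕ, r.Prime → r ≠ 2 → ¬ ∃ x ∈ H, orderOf x = r) : IsPGroup 2 H := by
  refine IsPGroup.of_card (p := 2) (n := (Nat.card H).primeFactorsList.length) ?_
  refine Nat.eq_prime_pow_of_unique_prime_dvd Nat.card_pos.ne' fun {r} hr hrd => ?_
  by_contra hr2
  have := Fact.mk hr
  obtain ⟨x, hxr⟩ := exists_prime_orderOf_dvd_card' r hrd
  exact h r hr hr2 ⟨x, x.2, (Subgroup.orderOf_coe x).trans hxr⟩

theorem CIT.of_orders (h : ∀ r : ℕ, r.Prime → r ≠ 2 → ¬ ∃ x : G, orderOf x = 2 * r) : CIT G := by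
  intro t ht
  refine IsPGroup_two_of_orders _ fun r hr hr2 ⟨x, hx, hxr⟩ => h r hr hr2 ⟨t * x, ?_⟩
  have hc : Commute t x := (mem_centralizer_singleton_iff.1 hx).symm
  rw [hc.orderOf_mul_eq_mul_orderOf_of_coprime, ht, hxr]
  rw [ht, hxr]
  exact (Nat.coprime_primes Nat.prime_two hr).2 (Ne.symm hr2)

omit [Finite G] in
/-- An element of odd prime order centralises no non-trivial 2-element. -/
theorem CIT.no_commute (h : CIT G) {a x : G} (ha : a ≠ 1) (ha2 : ∃ k, a ^ 2 ^ k = 1)
    {r : ℕ} (hr : r.Prime) (hr2 : r ≠ 2) (hx : orderOf x = r) (hc : Commute a x) : False := by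
  obtain ⟨k, hk⟩ := ha2
  obtain ⟨j, -, hj⟩ := (Nat.dvd_prime_pow Nat.prime_two).1 (orderOf_dvd_of_pow_eq_one hk)
  rcases j with _ | j
  · exact ha (orderOf_eq_one_iff.1 (by rw [hj, pow_zero]))
  set t := a ^ (2 ^ j)
  have ht : orderOf t = 2 := by
    rw [orderOf_pow_of_dvd (by positivity) (by rw [hj]; exact pow_dvd_pow 2 (Nat.le_succ j)), hj,
      pow_succ, Nat.mul_div_cancel_left _ (by positivity)]
  have hmem : x ∈ centralizer ({t} : Set G) :=
    mem_centralizer_singleton_iff.2 (hc.pow_left (2 ^ j)).symm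
  obtain ⟨i, hi⟩ := h t ht ⟨x, hmem⟩
  have hi' : x ^ 2 ^ i = 1 := by simpa using congrArg Subtype.val hi
  exact hr2 ((Nat.prime_dvd_prime_iff_eq hr Nat.prime_two).1
    (hr.dvd_of_dvd_pow (hx ▸ orderOf_dvd_of_pow_eq_one hi')))

omit [Finite G] in
theorem CIT.subgroup (h : CIT G) (H : Subgroup G) : CIT H := by
  intro t ht x
  obtain ⟨j, hj⟩ := h (t : G) (by rwa [Subgroup.orderOf_coe]) ⟨((x : H) : G),
    mem_centralizer_singleton_iff.2 (congrArg Subtype.val (mem_centralizer_singleton_iff.1 x.2))⟩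
  exact ⟨j, Subtype.ext (Subtype.ext (by simpa using congrArg Subtype.val hj))⟩

/-- Quotients by normal 2-subgroups. -/
theorem CIT.quotient (h : CIT G) (N : Subgroup G) [N.Normal] (hN : IsPGroup 2 N) : CIT (G ⧸ N) := by
  intro t ht
  refine IsPGroup_two_of_orders _ fun r hr hr2 ⟨x, hx, hxr⟩ => ?_
  have := Fact.mk hr
  have hcop : Nat.Coprime r 2 := (Nat.coprime_primes hr Nat.prime_two).2 hr2
  obtain ⟨x₀, rfl⟩ := QuotientGroup.mk_surjective x
  -- a preimage of order r
  obtain ⟨y, hyx, hyr⟩ : ∃ y : G, (y : G ⧸ N) ∈ zpowers (x₀ : G ⧸ N) ∧ orderOf y = r := by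
    have hd : r ∣ orderOf x₀ := hxr ▸ orderOf_map_dvd (QuotientGroup.mk' N) x₀
    exact ⟨x₀ ^ (orderOf x₀ / r), by rw [QuotientGroup.mk_pow]; exact Subgroup.pow_mem _ (mem_zpowers _) _,
      orderOf_pow_orderOf_div (orderOf_pos _).ne' hd⟩
  have hct : Commute (y : G ⧸ N) t := by
    obtain ⟨i, hi⟩ := mem_zpowers_iff.1 hyx
    rw [← hi]
    exact Commute.zpow_left (mem_centralizer_singleton_iff.1 hx) i
  obtain ⟨t₀, rfl⟩ := QuotientGroup.mk_surjective t
  -- the coset t₀ N is a set of 2-elements normalised by y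
  have h2 : ∀ a : G, (a : G ⧸ N) = t₀ → ∃ k, a ^ 2 ^ k = 1 := fun a ha => by
    have hm : a ^ 2 ∈ N := by
      rw [← QuotientGroup.eq_one_iff, QuotientGroup.mk_pow, ha, ← ht, pow_orderOf_eq_one]
    obtain ⟨k, hk⟩ := hN ⟨a ^ 2, hm⟩
    exact ⟨k + 1, by rw [pow_succ', pow_mul]; simpa using congrArg Subtype.val hk⟩
  let S := {a : G // (a : G ⧸ N) = t₀}
  let f : S → S := fun a => ⟨y * a.1 * y⁻¹, by
    rw [QuotientGroup.mk_mul, QuotientGroup.mk_mul, QuotientGroup.mk_inv, a.2, hct.eq,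
      mul_inv_cancel_right]⟩
  let σ : Equiv.Perm S := Equiv.ofBijective f (Finite.injective_iff_bijective.1 fun a b e => by
    have h1 : y * a.1 * y⁻¹ = y * b.1 * y⁻¹ := congrArg Subtype.val e
    exact Subtype.ext (mul_left_cancel (mul_right_cancel h1)))
  have hσ : ∀ (k : ℕ) (a : S), ((σ ^ k) a).1 = y ^ k * a.1 * (y ^ k)⁻¹ := by
    intro k
    induction k with
    | zero => simp
    | succ k ih =>
      intro a
      rw [pow_succ', Equiv.Perm.mul_apply]
      show y * ((σ ^ k) a).1 * y⁻¹ = _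
      rw [ih, pow_succ']
      group
  have hσr : σ ^ r ^ 1 = 1 := Equiv.ext fun a => Subtype.ext (by
    rw [pow_one, hσ, ← hyr, pow_orderOf_eq_one]; simp)
  classical
  have : Fintype S := Fintype.ofFinite S
  have hcard : ¬ r ∣ Fintype.card S := by
    intro hd
    have e : S ≃ N :=
      { toFun := fun a => ⟨t₀⁻¹ * a.1, QuotientGroup.eq.1 a.2.symm⟩
        invFun := fun n => ⟨t₀ * n.1, by simp⟩
        left_inv := fun a => Subtype.ext (by simp)
        right_inv := fun n => Subtype.ext (by simp) }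
    rw [← Nat.card_eq_fintype_card, Nat.card_congr e] at hd
    obtain ⟨k, hk⟩ := hN.exists_card_eq
    exact hr2 ((Nat.prime_dvd_prime_iff_eq hr Nat.prime_two).1 (hr.dvd_of_dvd_pow (hk ▸ hd)))
  obtain ⟨a, ha⟩ := Equiv.Perm.exists_fixed_point_of_prime (p := r) hcard hσr
  have hc : Commute a.1 y := by
    have := congrArg Subtype.val ha
    exact (mul_inv_eq_iff_eq_mul.1 (show y * a.1 * y⁻¹ = a.1 from this)).symm
  refine h.no_commute (fun e => ?_) (h2 a.1 a.2) hr hr2 hyr hc
  have := a.2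
  rw [e, QuotientGroup.mk_one] at this
  rw [← this, orderOf_one] at ht
  norm_num at ht

/-- A non-trivial solvable normal subgroup contains a non-trivial abelian normal subgroup. -/
theorem exists_abelian_normal (R : Subgroup G) [R.Normal] (hR : Group.IsSolvable R) (hne : R ≠ ⊥) :
    ∃ E : Subgroup G, E.Normal ∧ E ≠ ⊥ ∧ ∀ a ∈ E, ∀ b ∈ E, a * b = b * a := by
  classical
  obtain ⟨n, hn⟩ := hR.solvable
  have hex : ∃ i, (derivedSeries R i).map R.subtype = ⊥ := ⟨n, by rw [hn, Subgroup.map_bot]⟩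
  have h0 : Nat.find hex ≠ 0 := fun e => hne (by
    have := Nat.find_spec hex
    rwa [e, derivedSeries_zero, ← MonoidHom.range_eq_map, range_subtype] at this)
  obtain ⟨i, hi⟩ := Nat.exists_eq_succ_of_ne_zero h0
  have hsucc : (derivedSeries R (i + 1)).map R.subtype = ⊥ := by
    have := Nat.find_spec hex
    rwa [hi] at this
  refine ⟨(derivedSeries R i).map R.subtype, ?_, Nat.find_min hex (by omega), ?_⟩
  · have : (derivedSeries R i).Characteristic := derivedSeries_characteristic R i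
    exact ConjAct.normal_of_characteristic_of_normal
  · rintro _ ⟨a, ha, rfl⟩ _ ⟨b, hb, rfl⟩
    have hab : a * b * a⁻¹ * b⁻¹ ∈ derivedSeries R (i + 1) := by
      rw [derivedSeries_succ]
      exact commutator_mem_commutator ha hb
    have hm := mem_map_of_mem R.subtype hab
    rw [hsucc, mem_bot, map_mul, map_mul, map_mul, map_inv, map_inv, mul_inv_eq_one,
      mul_inv_eq_iff_eq_mul] at hm
    exact hm

variable (hodd : ∀ (H : Type u) [Group H] [Finite H], Odd (Nat.card H) → Group.IsSolvable H)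

include hodd in
/-- Without normal 2-subgroups a non-solvable CIT-group has no solvable normal subgroup. -/
theorem CIT.eq_bot_of_solvable (h : CIT G) (hns : ¬ Group.IsSolvable G)
    (hO : ∀ N : Subgroup G, N.Normal → IsPGroup 2 N → N = ⊥)
    (R : Subgroup G) [R.Normal] (hR : Group.IsSolvable R) : R = ⊥ := by
  by_contra hne
  obtain ⟨E, hEn, hE1, hEc⟩ := exists_abelian_normal R hR hne
  have h2 : Fact (Nat.Prime 2) := ⟨Nat.prime_two⟩
  have hEodd : ¬ 2 ∣ Nat.card E := by
    intro hd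
    have : IsMulCommutative E := ⟨⟨fun a b => Subtype.ext (hEc a a.2 b b.2)⟩⟩
    let P : Sylow 2 E := default
    have hPn : (P : Subgroup E).Normal := ⟨fun a ha g => by
      rwa [show g * a * g⁻¹ = a by
        rw [mul_inv_eq_iff_eq_mul]; exact Subtype.ext (hEc g g.2 a a.2)]⟩
    have := P.characteristic_of_normal hPn
    have hn : ((P : Subgroup E).map E.subtype).Normal := ConjAct.normal_of_characteristic_of_normal
    have hb := hO _ hn (P.isPGroup'.map _)
    rw [Subgroup.map_eq_bot_iff, ker_subtype, le_bot_iff] at hb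
    exact P.ne_bot_of_dvd_card hd hb
  obtain ⟨t, ht⟩ := exists_prime_orderOf_dvd_card' (G := G) 2 (by
    by_contra hd
    exact hns (hodd G (Nat.odd_iff.2 (Nat.two_dvd_ne_zero.1 hd))))
  set C := centralizer (E : Set G)
  have hCn : C.Normal := inferInstance
  obtain ⟨⟨e, heE⟩, he1⟩ : ∃ e : E, e ≠ 1 := by
    by_contra! hall
    exact hE1 ((Subgroup.eq_bot_iff_forall _).2 fun e he => congrArg Subtype.val (hall ⟨e, he⟩))
  -- E is an odd group
  obtain ⟨r, hr, hre⟩ := Nat.exists_prime_and_dvd (n := orderOf e)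
    (fun hh => he1 (Subtype.ext (orderOf_eq_one_iff.1 hh)))
  have hr2 : r ≠ 2 := fun hh =>
    hEodd (hh ▸ hre.trans ((Subgroup.orderOf_mk e heE).symm.dvd.trans (orderOf_dvd_natCard _)))
  set e' := e ^ (orderOf e / r)
  have he'E : e' ∈ E := E.pow_mem heE _
  have he'r : orderOf e' = r := orderOf_pow_orderOf_div (orderOf_pos _).ne' hre
  -- the centraliser of E has odd order
  have hCodd : ∀ c ∈ C, orderOf c ≠ 2 := fun c hc hc2 =>
    h.no_commute (fun hh => by rw [hh, orderOf_one] at hc2; norm_num at hc2)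
      ⟨1, by rw [pow_one, ← hc2, pow_orderOf_eq_one]⟩ hr hr2 he'r ((hc e' he'E).symm)
  have hinvE : ∀ u : G, orderOf u = 2 → ∀ a ∈ E, u * a * u⁻¹ = a⁻¹ := by
    intro u hu a ha
    set b := a * (u * a * u⁻¹)
    have hua : u * a * u⁻¹ ∈ E := hEn.conj_mem a ha u
    have hb : b ∈ E := E.mul_mem ha hua
    have hu2 : u * u = 1 := by rw [← pow_two, ← hu, pow_orderOf_eq_one]
    have hfix : u * b * u⁻¹ = b := by
      have : u * b * u⁻¹ = (u * a * u⁻¹) * a := by
        simp only [b, inv_eq_of_mul_eq_one_right hu2]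
        calc u * (a * (u * a * u)) * u = u * a * u * a * (u * u) := by group
          _ = _ := by rw [hu2, mul_one]
      rw [this, ← hEc a ha _ hua]
    by_contra hne
    have hb1 : b ≠ 1 := fun hh => hne (eq_inv_of_mul_eq_one_right hh)
    obtain ⟨s, hs, hsb⟩ := Nat.exists_prime_and_dvd (n := orderOf b)
      (fun hh => hb1 (orderOf_eq_one_iff.1 hh))
    have hs2 : s ≠ 2 := fun hh =>
      hEodd (hh ▸ hsb.trans ((Subgroup.orderOf_mk b hb).symm.dvd.trans (orderOf_dvd_natCard _)))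
    have hcomm : Commute u b := mul_inv_eq_iff_eq_mul.1 hfix
    exact h.no_commute (fun hh => by rw [hh, orderOf_one] at hu; norm_num at hu)
      ⟨1, by rw [pow_one, ← hu, pow_orderOf_eq_one]⟩ hs hs2
      (orderOf_pow_orderOf_div (orderOf_pos _).ne' hsb) (hcomm.pow_right _)
  have hcong : ∀ g : G, g * t * g⁻¹ * t⁻¹ ∈ C := by
    intro g a ha
    have htt : orderOf (g * t * g⁻¹) = 2 :=
      (SemiconjBy.orderOf_eq g (by simp [SemiconjBy] : SemiconjBy g t (g * t * g⁻¹))).symm.trans ht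
    have e1 := hinvE _ ht a ha
    have e2 := hinvE _ htt a⁻¹ (E.inv_mem ha)
    rw [inv_inv] at e2
    symm
    rw [← mul_inv_eq_iff_eq_mul]
    have : t⁻¹ = t := inv_eq_of_mul_eq_one_right (by rw [← pow_two, ← ht, pow_orderOf_eq_one])
    rw [this]
    calc g * t * g⁻¹ * t * a * (g * t * g⁻¹ * t)⁻¹
        = g * t * g⁻¹ * (t * a * t⁻¹) * (g * t * g⁻¹)⁻¹ := by group
      _ = a := by rw [e1, e2]
  let f : C → C := fun c => ⟨c.1 * t * c.1⁻¹ * t⁻¹, by
    exact hcong c.1⟩
  have hf : Function.Bijective f := Finite.injective_iff_bijective.1 fun a b hab => by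
    have hc : Commute t ((b : G)⁻¹ * a) := by
      have h1 : (a : G) * t * (a : G)⁻¹ = b * t * (b : G)⁻¹ := mul_right_cancel (congrArg Subtype.val hab)
      calc t * ((b : G)⁻¹ * a) = (b : G)⁻¹ * ((b : G) * t * (b : G)⁻¹) * a := by group
        _ = _ := by rw [← h1]; group
    by_contra hne
    have hne' : (b : G)⁻¹ * a ≠ 1 := fun hh => hne (Subtype.ext (inv_mul_eq_one.1 hh).symm)
    have hmem : (b : G)⁻¹ * a ∈ C := C.mul_mem (C.inv_mem b.2) a.2
    obtain ⟨s, hs, hsb⟩ := Nat.exists_prime_and_dvd (n := orderOf ((b : G)⁻¹ * a))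
      (fun hh => hne' (orderOf_eq_one_iff.1 hh))
    have hs2 : s ≠ 2 := fun hh =>
      hCodd _ (C.pow_mem hmem _) (hh ▸ orderOf_pow_orderOf_div (orderOf_pos _).ne' hsb)
    exact h.no_commute (fun hh => by rw [hh, orderOf_one] at ht; norm_num at ht)
      ⟨1, by rw [pow_one, ← ht, pow_orderOf_eq_one]⟩ hs hs2
      (orderOf_pow_orderOf_div (orderOf_pos _).ne' hsb) (hc.pow_right _)
  have htop : C ⊔ centralizer ({t} : Set G) = ⊤ := by
    rw [eq_top_iff]
    intro g _
    obtain ⟨d, hd⟩ := hf.2 ⟨g * t * g⁻¹ * t⁻¹, hcong g⟩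
    have hd' : (d : G) * t * (d : G)⁻¹ = g * t * g⁻¹ := mul_right_cancel (congrArg Subtype.val hd)
    have : (d : G)⁻¹ * g ∈ centralizer ({t} : Set G) := mem_centralizer_singleton_iff.2 (by
      calc (d : G)⁻¹ * g * t = (d : G)⁻¹ * (g * t * g⁻¹) * g := by group
        _ = _ := by rw [← hd']; group)
    have := mul_mem_sup d.2 this
    rwa [mul_inv_cancel_left] at this
  have hCs : Group.IsSolvable C := hodd C (Nat.odd_iff.2 (Nat.two_dvd_ne_zero.1 fun hd => by
    obtain ⟨c, hc⟩ := exists_prime_orderOf_dvd_card' (G := C) 2 hd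
    exact hCodd c c.2 ((Subgroup.orderOf_coe c).trans hc)))
  have hQs : Group.IsSolvable (G ⧸ C) := by
    have hsurj : Function.Surjective
        ((QuotientGroup.mk' C).comp (centralizer ({t} : Set G)).subtype) := by
      intro q
      obtain ⟨g, rfl⟩ := QuotientGroup.mk_surjective q
      have hg : g ∈ C ⊔ centralizer ({t} : Set G) := htop ▸ mem_top g
      rw [← SetLike.mem_coe, normal_mul C (centralizer ({t} : Set G))] at hg
      obtain ⟨c, hc, z, hz, rfl⟩ := hg
      exact ⟨⟨z, hz⟩, by simp [(QuotientGroup.eq_one_iff c).2 hc]⟩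
    have := ((h t ht).of_surjective _ hsurj).isNilpotent
    infer_instance
  exact hns (Group.isSolvable_of_ker_le_range C.subtype (QuotientGroup.mk' C)
    (by rw [QuotientGroup.ker_mk', Subgroup.range_subtype]))

include hodd in
/-- The socle is simple and self-centralising. -/
theorem CIT.exists_socle (h : CIT G) (hns : ¬ Group.IsSolvable G)
    (hO : ∀ N : Subgroup G, N.Normal → IsPGroup 2 N → N = ⊥) :
    ∃ T : Subgroup G, T.Normal ∧ IsSimpleGroup T ∧ ¬ IsMulCommutative T ∧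
      Subgroup.centralizer (T : Set G) = ⊥ := by
  classical
  have h2 : Fact (Nat.Prime 2) := ⟨Nat.prime_two⟩
  have hcent : ∀ (H : Subgroup G), ¬ Group.IsSolvable H →
      ¬ 2 ∣ Nat.card (centralizer (H : Set G)) := by
    intro H hH hd
    obtain ⟨⟨c, hc⟩, hc2⟩ := exists_prime_orderOf_dvd_card' (G := centralizer (H : Set G)) 2 hd
    rw [Subgroup.orderOf_mk] at hc2
    have hle : H ≤ centralizer ({c} : Set G) := fun x hx =>
      mem_centralizer_singleton_iff.2 (hc x hx)
    have := ((h c hc2).to_le hle).isNilpotent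
    exact hH inferInstance
  have hnn : ∀ N : Subgroup G, N.Normal → N ≠ ⊥ → ¬ Group.IsSolvable N := fun N hN hne hs =>
    hne (h.eq_bot_of_solvable hodd hns hO N hs)
  obtain ⟨T, ⟨hTn, hT1⟩, hmin⟩ : ∃ T : Subgroup G, (T.Normal ∧ T ≠ ⊥) ∧
      ∀ K : Subgroup G, K.Normal → K ≠ ⊥ → K ≤ T → K = T := by
    have htop : (⊤ : Subgroup G).Normal ∧ (⊤ : Subgroup G) ≠ ⊥ := ⟨inferInstance, fun e => by
      have hsub : Subsingleton G := Subgroup.subsingleton_iff.1 (subsingleton_of_bot_eq_top e.symm)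
      exact hns inferInstance⟩
    obtain ⟨T, hT⟩ := Set.Finite.exists_minimal
      (Set.toFinite {K : Subgroup G | K.Normal ∧ K ≠ ⊥}) ⟨⊤, htop⟩
    exact ⟨T, hT.1, fun K hK hK1 hle => le_antisymm hle (hT.2 ⟨hK, hK1⟩ hle)⟩
  have hTns := hnn T hTn hT1
  have hCT : centralizer (T : Set G) = ⊥ := by
    by_contra hne
    have hn : (centralizer (T : Set G)).Normal := inferInstance
    exact hnn _ hn hne (hodd _ (Nat.odd_iff.2 (Nat.two_dvd_ne_zero.1 (hcent T hTns))))
  have hOT : ∀ N : Subgroup T, N.Normal → IsPGroup 2 N → N = ⊥ := by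
    intro N hN hN2
    have hle : N ≤ Cfsg.pCore 2 T := Core.le_pCore hN2
    have hch : (Cfsg.pCore 2 T).Characteristic := Core.pCore_characteristic
    have hb := hO ((Cfsg.pCore 2 T).map T.subtype) ConjAct.normal_of_characteristic_of_normal
      ((Core.pCore_isPGroup).map _)
    rw [Subgroup.map_eq_bot_iff, ker_subtype, le_bot_iff] at hb
    exact le_bot_iff.1 (hb ▸ hle)
  have hTcit := h.subgroup T
  have : Nontrivial T := (nontrivial_iff_ne_bot T).2 hT1
  refine ⟨T, hTn, ⟨fun N hN => ?_⟩, fun hc => hTns (by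
    exact Group.isSolvable_of_comm hc.is_comm.comm), hCT⟩
  by_contra! hcon
  obtain ⟨M, ⟨hMn, hM1⟩, hMmin⟩ : ∃ M : Subgroup T, (M.Normal ∧ M ≠ ⊥) ∧
      ∀ K : Subgroup T, K.Normal → K ≠ ⊥ → K ≤ M → K = M ∧ M ≤ N := by
    obtain ⟨M, hM⟩ := Set.Finite.exists_minimal
      (Set.toFinite {K : Subgroup T | K.Normal ∧ K ≠ ⊥ ∧ K ≤ N}) ⟨N, hN, hcon.1, le_rfl⟩
    exact ⟨M, ⟨hM.1.1, hM.1.2.1⟩, fun K hK hK1 hle =>
      ⟨le_antisymm hle (hM.2 ⟨hK, hK1, hle.trans hM.1.2.2⟩ hle), hM.1.2.2⟩⟩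
  have hMns : ¬ Group.IsSolvable (M.map T.subtype) := fun hs => hM1 (by
    have : Group.IsSolvable M := Group.isSolvable_of_isSolvable_injective
      (f := ((M.equivMapOfInjective T.subtype T.subtype_injective)).toMonoidHom) (MulEquiv.injective _)
    exact hTcit.eq_bot_of_solvable hodd hTns hOT M this)
  -- M is normalised by G
  have hG : ∀ g : G, ∀ a ∈ M.map T.subtype, g * a * g⁻¹ ∈ M.map T.subtype := by
    intro g
    let φ : MulAut T := MulAut.conjNormal g
    set M' := M.map φ.toMonoidHom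
    have hM'n : M'.Normal := hMn.map _ φ.surjective
    have hinf : M ⊓ M' ≠ ⊥ := by
      intro hb
      have hcomm : ∀ a ∈ M, ∀ b ∈ M', a * b = b * a := fun a ha b hb' =>
        (Subgroup.commute_of_normal_of_disjoint M M' hMn hM'n (disjoint_iff.2 hb) a b ha hb').eq
      have h2d : 2 ∣ Nat.card (M'.map T.subtype) := by
        by_contra hd
        have hs := hodd (M'.map T.subtype) (Nat.odd_iff.2 (Nat.two_dvd_ne_zero.1 hd))
        have : Group.IsSolvable M' := Group.isSolvable_of_isSolvable_injective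
          (f := ((M'.equivMapOfInjective T.subtype T.subtype_injective)).toMonoidHom) (MulEquiv.injective _)
        refine hM1 ((Subgroup.map_eq_bot_iff_of_injective M φ.injective).1 ?_)
        exact hTcit.eq_bot_of_solvable hodd hTns hOT M' this
      refine hcent (M.map T.subtype) hMns (h2d.trans (card_dvd_of_le ?_))
      rintro _ ⟨b, hb', rfl⟩ _ ⟨a, ha, rfl⟩
      exact congrArg Subtype.val (hcomm a ha b hb')
    have hle : M ≤ M' := inf_eq_left.1 ((hMmin _ inferInstance hinf inf_le_left).1)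
    have heq : M = M' := eq_of_le_of_card_ge hle
      (le_of_eq (Nat.card_congr (M.equivMapOfInjective φ.toMonoidHom φ.injective).toEquiv).symm)
    rintro _ ⟨a, ha, rfl⟩
    refine ⟨φ a, ?_, MulAut.conjNormal_apply g a⟩
    rw [SetLike.mem_coe, heq]
    exact mem_map_of_mem _ ha
  have hMT : M.map T.subtype = T := hmin _ ⟨fun a ha g => hG g a ha⟩
    (fun hb => hM1 ((Subgroup.map_eq_bot_iff_of_injective M T.subtype_injective).1 hb)) (map_subtype_le M)
  refine hcon.2 (top_le_iff.1 fun x _ => (hMmin M hMn hM1 le_rfl).2 ?_)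
  obtain ⟨a, ha, hax⟩ := (SetLike.ext_iff.1 hMT x.1).2 x.2
  rwa [← Subtype.ext hax]

end Cfsg.Agent.PrimeGraphCIT
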