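import Cfsg.Agent.Classical.Dickson2.Partition
import Cfsg.Agent.Classical.A5InPSL

/-!
Facts about PSL(2,q), q even.
-/

set_option autoImplicit false

namespace Cfsg.Agent.PrimeGraphCIT

open Matrix Cfsg.Agent.SL2Class Cfsg.Agent.Classical.Dickson2

variable {F : Type*} [Field F] [Fintype F] [CharP F 2]

local notation "PG" => Matrix.ProjectiveSpecialLinearGroup (Fin 2) F

omit [CharP F 2] in
theorem gcd_two_eq_one (h : 2 ∣ Fintype.card F) : Nat.gcd 2 (Fintype.card F - 1) = 1 :=
  Nat.prime_two.coprime_iff_not_dvd.2 (by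
    have := Fintype.card_pos (α := F)
    omega)

theorem two_dvd_card : 2 ∣ Fintype.card F := by
  obtain ⟨n, -, hn⟩ := FiniteField.card F 2
  exact hn ▸ dvd_pow_self 2 n.ne_zero

theorem card_psl_even : Nat.card PG = Fintype.card F * ((Fintype.card F - 1) * (Fintype.card F + 1)) := by
  have := Classical.A5InPSL.card_psl (F := F)
  rw [gcd_two_eq_one two_dvd_card, one_mul] at this
  rw [this, mul_comm (Fintype.card F - 1), ← Nat.sq_sub_sq, one_pow]

instance : Fact (Nat.Prime 2) := ⟨Nat.prime_two⟩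

/-- Order two, or dividing q - 1 or q + 1. -/
theorem psl_order_cases (x : PG) :
    orderOf x ∣ 2 ∨ orderOf x ∣ Fintype.card F - 1 ∨ orderOf x ∣ Fintype.card F + 1 := by
  obtain ⟨g, rfl⟩ := proj_surjective x
  have := orderOf_proj_dvd g 2
  rwa [gcd_two_eq_one two_dvd_card, Nat.div_one, Nat.div_one] at this

theorem psl_no_two_mul {r : ℕ} (hr : r.Prime) (hr2 : r ≠ 2) : ¬ ∃ x : PG, orderOf x = 2 * r := by
  rintro ⟨x, hx⟩
  have := Fintype.card_pos (α := F)
  obtain ⟨j, hj⟩ := two_dvd_card (F := F)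
  rcases psl_order_cases x with h | h | h <;> rw [hx] at h
  · have := Nat.le_of_dvd two_pos h
    have := hr.two_le
    omega
  all_goals
    obtain ⟨i, hi⟩ := (dvd_mul_right 2 r).trans h
    omega

/-- Elements of odd prime order in different tori do not commute. -/
theorem psl_nonadjacent {r s : ℕ} (hr : r.Prime) (hs : s.Prime) (hr2 : r ≠ 2)
    (hrd : r ∣ Fintype.card F - 1) (hsd : s ∣ Fintype.card F + 1) :
    ¬ ∃ x : PG, orderOf x = r * s := by
  rintro ⟨x, hx⟩
  have := Fintype.card_pos (α := F)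
  obtain ⟨j, hj⟩ := two_dvd_card (F := F)
  have hcop : Nat.Coprime (Fintype.card F - 1) (Fintype.card F + 1) := by
    rw [Nat.coprime_iff_gcd_eq_one]
    by_contra hne
    obtain ⟨p, hp, hpd⟩ := Nat.exists_prime_and_dvd hne
    have h1 := hpd.trans (Nat.gcd_dvd_left _ _)
    have h2 := Nat.dvd_sub (hpd.trans (Nat.gcd_dvd_right _ _)) h1
    rw [show Fintype.card F + 1 - (Fintype.card F - 1) = 2 by omega] at h2
    obtain rfl := (Nat.prime_dvd_prime_iff_eq hp Nat.prime_two).1 h2
    obtain ⟨i, hi⟩ := h1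
    omega
  rcases psl_order_cases x with h | h | h <;> rw [hx] at h
  · exact hr2 ((Nat.prime_dvd_prime_iff_eq hr Nat.prime_two).1 ((dvd_mul_right r s).trans h))
  · exact hs.ne_one (Nat.eq_one_of_dvd_coprimes hcop ((dvd_mul_left s r).trans h) hsd)
  · exact hr.ne_one (Nat.eq_one_of_dvd_coprimes hcop hrd ((dvd_mul_right r s).trans h))

theorem centralizer_eq_tor {x : PG} (h : x ^ 2 ≠ 1) : Subgroup.centralizer ({x} : Set PG) = tor x := by
  have hx : x ≠ 1 := fun e => h (by rw [e, one_pow])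
  refine le_antisymm (fun y hy => ?_) fun y hy =>
    Subgroup.mem_centralizer_singleton_iff.2 (tor_comm hx hy (mem_tor x))
  obtain ⟨k, rfl⟩ := proj_surjective y
  refine proj_mem_torus_iff.2 ?_
  have hy' : proj k * x = x * proj k := Subgroup.mem_centralizer_singleton_iff.1 hy
  have e : proj (k * sect x * k⁻¹) = proj (sect x) := by
    rw [map_mul, map_mul, map_inv, proj_sect, hy', mul_inv_cancel_right]
  rw [Subgroup.mem_centralizer_singleton_iff]
  refine mul_inv_eq_iff_eq_mul.1 ?_
  rcases proj_eq_iff.1 e with e' | e'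
  · exact e'.symm
  · refine e'.trans ?_ |>.symm
    refine Subtype.ext ?_
    ext i j
    rw [Matrix.SpecialLinearGroup.coe_neg, Matrix.neg_apply, CharTwo.neg_eq]

theorem psl_cyclic_inverted {r : ℕ} (hr : r.Prime) (hr2 : r ≠ 2) {x : PG} (hx : orderOf x = r) :
    IsCyclic (Subgroup.centralizer ({x} : Set PG)) ∧ ∃ w : PG, w * x * w⁻¹ = x⁻¹ := by
  have h : x ^ 2 ≠ 1 := fun e =>
    hr2 ((Nat.prime_dvd_prime_iff_eq hr Nat.prime_two).1 (hx ▸ orderOf_dvd_of_pow_eq_one e))
  refine ⟨?_, ?_⟩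
  · rw [centralizer_eq_tor h]
    exact isCyclic_tor 2 h
  · obtain ⟨w, -, -, -, hw, -⟩ := normalizer_semis 2 h
    exact ⟨w, hw x (mem_tor x)⟩

/-- Sylow 2-subgroups: abelian of order q, with normaliser of order q (q - 1). -/
theorem psl_sylow (P : Sylow 2 PG) :
    Nat.card (Subgroup.center (P : Subgroup PG)) = Fintype.card F ∧
      Nat.card P = Fintype.card F ∧
      Nat.card ↥(Subgroup.normalizer ((P : Subgroup PG) : Set PG)) =
        Fintype.card F * (Fintype.card F - 1) := by
  obtain ⟨x, hx, hx2, hP⟩ := eq_tor_of_sylow 2 P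
  have hcard : Nat.card P = Fintype.card F := by
    show Nat.card (P : Subgroup PG) = _
    rw [hP, card_tor_unip 2 hx hx2]
  refine ⟨?_, hcard, ?_⟩
  · have htop : Subgroup.center (P : Subgroup PG) = ⊤ := by
      rw [eq_top_iff]
      intro y _
      rw [Subgroup.mem_center_iff]
      exact fun z => Subtype.ext (tor_comm hx (hP ▸ z.2) (hP ▸ y.2))
    rw [htop, Subgroup.card_top]
    exact hcard
  · have := card_normalizer_unip 2 hx hx2
    rw [gcd_two_eq_one two_dvd_card, mul_one, ← hP, mul_comm] at this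
    exact this

end Cfsg.Agent.PrimeGraphCIT
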