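import Cfsg.Agent.Suzuki.Tori3

/-!
Facts about Suzuki groups used for their prime graphs.
-/

set_option autoImplicit false

namespace Cfsg.Agent.PrimeGraphCIT

open MulAction Subgroup Cfsg.Agent.Suzuki Cfsg.Agent.RankOne.Ovoid

universe u

variable {F : Type u} [Field F] [Fintype F] {m : ℕ} (hm : 1 ≤ m)
  (hF : Fintype.card F = 2 ^ (2 * m + 1))

include hm hF

theorem sz_order_cases (g : Cfsg.Sz F m) :
    orderOf g ∣ 4 ∨ orderOf g ∣ Nat.card F - 1 ∨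
      (¬ 2 ∣ orderOf g ∧ ∀ p : ℕ, p.Prime → p ∣ orderOf g → ¬ p ∣ Nat.card F - 1) := by
  rcases elt_cases hm hF g with h | ⟨k, hk⟩ | ⟨k, c, -, hk⟩
  · refine Or.inr (Or.inr ⟨fun h2 => (dvd_of_fpf (good_of_card (m := m) hF) hm hF h Nat.prime_two h2).1 rfl,
      fun p hp hd => (dvd_of_fpf (good_of_card (m := m) hF) hm hF h hp hd).2.1⟩)
  · exact Or.inl (orderOf_dvd_four hF hk)
  · exact Or.inr (Or.inl (orderOf_dvd_sub_one hF hk))

theorem sz_odd_sub_one : ¬ 2 ∣ Nat.card F - 1 := by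
  obtain ⟨j, hj⟩ := even_q hm hF
  have := eight_le hm hF
  rintro ⟨i, hi⟩
  omega

theorem sz_no_two_mul {r : ℕ} (hr : r.Prime) (hr2 : r ≠ 2) :
    ¬ ∃ x : Cfsg.Sz F m, orderOf x = 2 * r := by
  rintro ⟨x, hx⟩
  rcases sz_order_cases hm hF x with h | h | ⟨h, -⟩
  · rw [hx] at h
    exact hr2 ((Nat.prime_dvd_prime_iff_eq hr Nat.prime_two).1
      (hr.dvd_of_dvd_pow (show r ∣ 2 ^ 2 from (dvd_mul_left r 2).trans h)))
  · exact sz_odd_sub_one hm hF ((hx ▸ dvd_mul_right 2 r).trans h)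
  · exact h (hx ▸ dvd_mul_right 2 r)

theorem sz_nonadjacent {r s : ℕ} (hr : r.Prime) (hs : s.Prime)
    (hrd : r ∣ Nat.card F - 1) (hsd : s ∣ Nat.card F ^ 2 + 1) :
    ¬ ∃ x : Cfsg.Sz F m, orderOf x = r * s := by
  rintro ⟨x, hx⟩
  obtain ⟨hs2, hs1, -⟩ := prime_facts hm hF hs hsd
  rcases sz_order_cases hm hF x with h | h | ⟨-, h⟩
  · exact hs2 ((Nat.prime_dvd_prime_iff_eq hs Nat.prime_two).1
      (hs.dvd_of_dvd_pow (show s ∣ 2 ^ 2 from (hx ▸ dvd_mul_left s r).trans h)))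
  · exact hs1 ((hx ▸ dvd_mul_left s r).trans h)
  · exact h r hr (hx ▸ dvd_mul_right r s) hrd

theorem sz_sylow (P : Sylow 2 (Cfsg.Sz F m)) :
    Nat.card (Subgroup.center (P : Subgroup (Cfsg.Sz F m))) = Nat.card F ∧
      Nat.card P = Nat.card F ^ 2 ∧
      Nat.card ↥(Subgroup.normalizer ((P : Subgroup (Cfsg.Sz F m)) : Set (Cfsg.Sz F m))) =
        Nat.card F ^ 2 * (Nat.card F - 1) := by
  have hG := good_of_card (m := m) hF
  obtain ⟨g, hg⟩ := exists_conj_U hG hm hF P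
  have hP : (P : Subgroup (Cfsg.Sz F m)).map (MulAut.conj g).toMonoidHom = U hG := by
    ext y
    rw [Subgroup.mem_map]
    constructor
    · rintro ⟨x, hx, rfl⟩
      exact (hg x).1 hx
    · intro hy
      exact ⟨g⁻¹ * y * g, (hg _).2 (by simpa [mul_assoc] using hy), by simp [mul_assoc]⟩
  let e : (P : Subgroup (Cfsg.Sz F m)) ≃* U hG :=
    ((P : Subgroup (Cfsg.Sz F m)).equivMapOfInjective _ (MulAut.conj g).injective).trans
      (MulEquiv.subgroupCongr hP)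
  refine ⟨?_, ?_, ?_⟩
  · rw [Nat.card_congr (Subgroup.centerCongr e).toEquiv]
    exact card_center_U hG hm hF
  · exact (Nat.card_congr e.toEquiv).trans (card_U hG)
  · have h := Subgroup.map_equiv_normalizer_eq (P : Subgroup (Cfsg.Sz F m)) (MulAut.conj g)
    rw [← card_map_of_injective (f := (MulAut.conj g).toMonoidHom) (MulAut.conj g).injective, h, hP,
      normalizer_U hG hm hF, card_stabilizer hm hF]

theorem sz_cyclic_inverted {r : ℕ} (hr : r.Prime) (hrd : r ∣ Nat.card F - 1)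
    {x : Cfsg.Sz F m} (hx : orderOf x = r) :
    IsCyclic (Subgroup.centralizer ({x} : Set (Cfsg.Sz F m))) ∧
      ∃ w : Cfsg.Sz F m, w * x * w⁻¹ = x⁻¹ := by
  have hG := good_of_card (m := m) hF
  have hr2 : r ≠ 2 := fun e => sz_odd_sub_one hm hF (e ▸ hrd)
  rcases elt_cases hm hF x with h | ⟨k, hk⟩ | ⟨k, c, hc, hk⟩
  · exact absurd hrd (dvd_of_fpf hG hm hF h hr (hx ▸ dvd_rfl)).2.1
  · exact absurd ((Nat.prime_dvd_prime_iff_eq hr Nat.prime_two).1
      (hr.dvd_of_dvd_pow (show r ∣ 2 ^ 2 from hx ▸ orderOf_dvd_four hF hk))) hr2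
  · refine ⟨(centralizer_of_conj_H hm hF hc hk).1, k⁻¹ * J hG * k, ?_⟩
    have hJ : J hG * J hG = 1 := J_mul_J hG
    have hxk : x = k⁻¹ * H hG c * k := by rw [← hk]; group
    rw [hxk, show (k⁻¹ * H hG c * k)⁻¹ = k⁻¹ * (H hG c)⁻¹ * k by group, ← map_inv, ← J_H_J hG c]
    calc k⁻¹ * J hG * k * (k⁻¹ * H hG c * k) * (k⁻¹ * J hG * k)⁻¹
        = k⁻¹ * (J hG * H hG c * (J hG)⁻¹) * k := by group
      _ = _ := by rw [inv_eq_of_mul_eq_one_right hJ]

end Cfsg.Agent.PrimeGraphCIT
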