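import Cfsg.Agent.PrimeGraphCIT.Frame
import Cfsg.Agent.PrimeGraphCIT.PSL
import Cfsg.Agent.PrimeGraphCIT.Sz
import Cfsg.Agent.Suzuki.Subfield
import Cfsg.Agent.Classical.SmallSimple

/-!
The outer part for socles PSL(2,2^n) and Sz(q).
-/

set_option autoImplicit false

namespace Cfsg.Agent.PrimeGraphCIT

open Subgroup

universe u

instance fact_prime_two' : Fact (Nat.Prime 2) := ⟨Nat.prime_two⟩

theorem card_psl_mul_two {F : Type*} [Field F] [Fintype F] :
    Nat.card (Matrix.ProjectiveSpecialLinearGroup (Fin 2) F) * Nat.gcd 2 (Fintype.card F - 1) =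
      Fintype.card F * (Fintype.card F ^ 2 - 1) :=
  (mul_comm _ _).trans Classical.A5InPSL.card_psl

theorem three_dvd_psl_two (F : Type*) [Field F] [Fintype F] :
    3 ∣ Nat.card (Matrix.ProjectiveSpecialLinearGroup (Fin 2) F) := by
  have h : 3 ∣ Nat.card (Matrix.ProjectiveSpecialLinearGroup (Fin 2) F) *
      Nat.gcd 2 (Fintype.card F - 1) := by
    rw [card_psl_mul_two, ← one_pow 2, Nat.sq_sub_sq, Nat.prime_three.dvd_mul,
      Nat.prime_three.dvd_mul]
    have := Fintype.card_pos (α := F)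
    omega
  refine (Nat.prime_three.dvd_mul.1 h).resolve_right fun h' => ?_
  have := Nat.le_of_dvd two_pos (h'.trans (Nat.gcd_dvd_left _ _))
  omega

theorem card_psl_three_four {F : Type*} [Field F] [Fintype F] (hF : Fintype.card F = 4) :
    Nat.card (Matrix.ProjectiveSpecialLinearGroup (Fin 3) F) = 20160 := by
  have h1 := Classical.card_sl_mul hF 3 (by norm_num)
  have h2 := Classical.card_psl_mul (ι := Fin 3) (F := F)
  rw [Fin.prod_univ_three] at h1
  rw [Fintype.card_fin, hF] at h2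
  simp at h1 h2
  omega

theorem charP_two_of_card {F : Type*} [Field F] [Fintype F] {n : ℕ} (hn : Fintype.card F = 2 ^ n) :
    CharP F 2 :=
  charP_of_card_eq_prime_pow hn

variable {Q : Type u} [Group Q] [Finite Q] {T : Subgroup Q} {nS : ℕ}

section PSL

variable {F : Type*} [Field F] [Fintype F] {n : ℕ} (hn : Fintype.card F = 2 ^ n)
  (f : T ≃* Matrix.ProjectiveSpecialLinearGroup (Fin 2) F)

include hn f in
omit [Finite Q] in
theorem card_of_psl : Nat.card T = 2 ^ n * (2 ^ (2 * n) - 1) := by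
  have := charP_two_of_card hn
  rw [Nat.card_congr f.toEquiv, card_psl_even, hn, mul_comm 2 n, pow_mul, mul_comm (2 ^ n - 1),
    ← Nat.sq_sub_sq, one_pow]

include hn f in
theorem index_of_psl (h : CIT Q) [T.Normal] : ∃ k, T.index = 2 ^ k := by
  have := charP_two_of_card hn
  let P : Sylow 2 T := default
  obtain ⟨P', h1, h2, h3⟩ := sylow_transfer f P
  obtain ⟨c1, c2, c3⟩ := psl_sylow P'
  exact h.index_two_pow T P (c := Fintype.card F) (h1 ▸ c1) (by rw [← h3, c3, ← h2, c2])

include hn f in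
theorem eq_top_of_psl (h : CIT Q) [T.Normal] : T = ⊤ := by
  have := charP_two_of_card hn
  obtain ⟨k, hk⟩ := index_of_psl hn f h
  refine h.eq_top_of_cyclic T hk Nat.prime_three (by norm_num) (by norm_num)
    (Nat.card_congr f.toEquiv ▸ three_dvd_psl_two F) (fun x hx => ?_) fun x hx => ?_
  · have hc := (psl_cyclic_inverted Nat.prime_three (by norm_num) (x := f x)
      (by rw [MulEquiv.orderOf_eq, hx])).1
    refine isCyclic_of_injective ((f.toMonoidHom.comp (centralizer ({x} : Set T)).subtype).codRestrict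
      (centralizer ({f x} : Set _)) fun y => mem_centralizer_singleton_iff.2 ?_) ?_
    · show f y * f x = f x * f y
      rw [← map_mul, ← map_mul, mem_centralizer_singleton_iff.1 y.2]
    · exact fun a b e => Subtype.ext (f.injective (congrArg Subtype.val e))
  · obtain ⟨w, hw⟩ := (psl_cyclic_inverted Nat.prime_three (by norm_num) (x := f x)
      (by rw [MulEquiv.orderOf_eq, hx])).2
    exact ⟨f.symm w, f.injective (by rw [map_mul, map_mul, map_inv, map_inv, f.apply_symm_apply, hw])⟩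

end PSL

section Sz

variable {F : Type*} [Field F] [Fintype F] {m : ℕ} (hm : 1 ≤ m)
  (hF : Fintype.card F = 2 ^ (2 * m + 1)) (f : T ≃* Cfsg.Sz F m)

include hm hF in
theorem dvd_card_sz_iff {r : ℕ} (hr : r.Prime) (hr2 : r ≠ 2) :
    r ∣ Nat.card (Cfsg.Sz F m) ↔ r ∣ (2 ^ (2 * m + 1) - 1) * (2 ^ (2 * (2 * m + 1)) + 1) := by
  rw [Suzuki.card_sz hm hF, Nat.card_eq_fintype_card, hF, mul_assoc, hr.dvd_mul, ← pow_mul,
    mul_comm (2 * m + 1) 2, or_iff_right fun h =>
    hr2 ((Nat.prime_dvd_prime_iff_eq hr Nat.prime_two).1 (hr.dvd_of_dvd_pow h))]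

include hm hF f in
theorem index_of_sz (h : CIT Q) [T.Normal] : ∃ k, T.index = 2 ^ k := by
  let P : Sylow 2 T := default
  obtain ⟨P', h1, h2, h3⟩ := sylow_transfer f P
  obtain ⟨c1, c2, c3⟩ := sz_sylow hm hF P'
  exact h.index_two_pow T P (c := Nat.card F) (h1 ▸ c1) (by rw [← h3, c3, ← h2, c2])

include hm hF f in
theorem eq_top_of_sz (h : CIT Q) [T.Normal] {r : ℕ} (hr : r.Prime) (hr4 : r % 4 = 3)
    (hrd : r ∣ Nat.card F - 1) : T = ⊤ := by
  obtain ⟨k, hk⟩ := index_of_sz hm hF f h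
  refine h.eq_top_of_cyclic T hk hr (by omega) (by omega) ?_ (fun x hx => ?_) fun x hx => ?_
  · rw [Nat.card_congr f.toEquiv, Suzuki.card_sz hm hF]
    exact (hrd.mul_left _).mul_right _
  · have hc := (sz_cyclic_inverted hm hF hr hrd (x := f x) (by rw [MulEquiv.orderOf_eq, hx])).1
    refine isCyclic_of_injective ((f.toMonoidHom.comp (centralizer ({x} : Set T)).subtype).codRestrict
      (centralizer ({f x} : Set _)) fun y => mem_centralizer_singleton_iff.2 ?_) ?_
    · show f y * f x = f x * f y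
      rw [← map_mul, ← map_mul, mem_centralizer_singleton_iff.1 y.2]
    · exact fun a b e => Subtype.ext (f.injective (congrArg Subtype.val e))
  · obtain ⟨w, hw⟩ := (sz_cyclic_inverted hm hF hr hrd (x := f x) (by rw [MulEquiv.orderOf_eq, hx])).2
    exact ⟨f.symm w, f.injective (by rw [map_mul, map_mul, map_inv, map_inv, f.apply_symm_apply, hw])⟩

include hm in
theorem sz_congr {K : Type*} [Field K] [Fintype K] (hK : Fintype.card K = 2 ^ (2 * m + 1)) (σ : K ≃+* F)
    (hF : Fintype.card F = 2 ^ (2 * m + 1)) : Nonempty (Cfsg.Sz K m ≃* Cfsg.Sz F m) := by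
  have hG := RankOne.Ovoid.good_of_card (m := m) hF
  let φ := Suzuki.sub σ.toRingHom (fun _ => rfl) hG hm hK
  have hcard : Nat.card (Cfsg.Sz K m) = Nat.card (Cfsg.Sz F m) := by
    rw [Suzuki.card_sz hm hK, Suzuki.card_sz hm hF, Nat.card_eq_fintype_card, Nat.card_eq_fintype_card,
      hK, hF]
  exact ⟨MulEquiv.ofBijective φ
    ((Nat.bijective_iff_injective_and_card φ).2 ⟨Suzuki.sub_injective _ _ hG hm hK, hcard⟩)⟩

end Sz

end Cfsg.Agent.PrimeGraphCIT
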