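import Cfsg.Agent.PrimeGraphCIT.Index
import Cfsg.Agent.PrimeGraph.ThreePrimes
import Cfsg.Prelude.Def_Sz

/-!
Groups with the prime graph of a simple CIT-group: the socle of the quotient by the 2-core.
-/

set_option autoImplicit false

namespace Cfsg.Agent.PrimeGraphCIT

open Subgroup

universe u

/-- The simple CIT-groups. -/
def CITList (T : Type u) [Group T] : Prop :=
    (∃ (F : Type) (_ : Field F) (_ : Fintype F),
        (Fintype.card F = 9 ∨ (∃ n : ℕ, Fintype.card F = 2 ^ n) ∨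
          ((Fintype.card F).Prime ∧ ∃ k : ℕ, Fintype.card F = 2 ^ k + 1 ∨ Fintype.card F + 1 = 2 ^ k)) ∧
        Nonempty (T ≃* Matrix.ProjectiveSpecialLinearGroup (Fin 2) F)) ∨
    (∃ (F : Type) (_ : Field F) (_ : Fintype F), Fintype.card F = 4 ∧
        Nonempty (T ≃* Matrix.ProjectiveSpecialLinearGroup (Fin 3) F)) ∨
    Cfsg.Lie.IsoSuzuki T

theorem sylow_transfer {T : Type*} {K : Type*} [Group T] [Group K] {p : ℕ} [Fact p.Prime] [Finite T]
    (f : T ≃* K) (P : Sylow p T) :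
    ∃ P' : Sylow p K, Nat.card (center (P' : Subgroup K)) = Nat.card (center (P : Subgroup T)) ∧
      Nat.card P' = Nat.card P ∧
      Nat.card ↥(normalizer ((P' : Subgroup K) : Set K)) =
        Nat.card ↥(normalizer ((P : Subgroup T) : Set T)) := by
  have hf : Function.Surjective f.toMonoidHom := f.surjective
  have hfi : Function.Injective f.toMonoidHom := f.injective
  refine ⟨P.mapSurjective hf, ?_, ?_, ?_⟩
  · rw [Sylow.coe_mapSurjective]
    exact (Nat.card_congr (Subgroup.centerCongr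
      ((P : Subgroup T).equivMapOfInjective f.toMonoidHom hfi)).toEquiv).symm
  · show Nat.card ↥((P : Subgroup T).map f.toMonoidHom) = _
    exact card_map_of_injective f.injective
  · rw [Sylow.coe_mapSurjective,
      ← card_map_of_injective (K := normalizer ((P : Subgroup T) : Set T)) (f := f.toMonoidHom) f.injective,
      Subgroup.map_equiv_normalizer_eq]

/-- The orders of the centres of Sylow 2-subgroups. -/
def CentreLog (T : Type u) [Group T] (e : ℕ) : Prop :=
  ∃ P : Sylow 2 T, Nat.card (center (P : Subgroup T)) = 2 ^ e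

theorem exists_centreLog (T : Type u) [Group T] [Finite T] (h : 2 ∣ Nat.card T) :
    ∃ e : ℕ, 0 < e ∧ 2 ^ e ∣ Nat.card T ∧ CentreLog T e := by
  have h2 : Fact (Nat.Prime 2) := ⟨Nat.prime_two⟩
  let P : Sylow 2 T := default
  have : Nontrivial P := (nontrivial_iff_ne_bot _).2 (P.ne_bot_of_dvd_card h)
  have := P.isPGroup'.center_nontrivial
  obtain ⟨j, hj0, hj⟩ := (P.isPGroup'.to_subgroup (center (P : Subgroup T))).nontrivial_iff_card.1 this
  exact ⟨j, hj0, hj ▸ (card_subgroup_dvd_card _).trans (card_subgroup_dvd_card _), P, hj⟩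

/-- The data attached to a group with the prime graph of a simple CIT-group with order `n`. -/
structure Socle (Q : Type u) [Group Q] (n : ℕ) (T : Subgroup Q) : Prop where
  normal : T.Normal
  cit : CIT Q
  list : CITList T
  dvd : ∀ r : ℕ, r.Prime → r ≠ 2 → r ∣ Nat.card T → r ∣ n
  index : ∀ r : ℕ, r.Prime → r ≠ 2 → r ∣ n → r ∣ Nat.card T ∨ r ∣ T.index
  even : 2 ∣ Nat.card T

variable {Q : Type u} [Group Q] [Finite Q] {n : ℕ} {T : Subgroup Q}

theorem Socle.bound (D : Socle Q n T) {e : ℕ} (he : CentreLog T e) {r : ℕ} (hr : r.Prime) (hr2 : r ≠ 2)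
    (hrn : r ∣ n) : r ∣ Nat.card T ∨ r ∣ 2 ^ e - 1 := by
  have := D.normal
  obtain ⟨P, hP⟩ := he
  exact (D.index r hr hr2 hrn).imp_right (D.cit.index_prime_dvd T P hP hr hr2)

omit [Finite Q] in
theorem Socle.iff_of_index (D : Socle Q n T) {k : ℕ} (hk : T.index = 2 ^ k) {r : ℕ} (hr : r.Prime)
    (hr2 : r ≠ 2) : r ∣ Nat.card T ↔ r ∣ n :=
  ⟨D.dvd r hr hr2, fun h => (D.index r hr hr2 h).resolve_right fun h' =>
    hr2 ((Nat.prime_dvd_prime_iff_eq hr Nat.prime_two).1 (hr.dvd_of_dvd_pow (hk ▸ h')))⟩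

section Reduce

variable (hodd : ∀ (H : Type u) [Group H] [Finite H], Odd (Nat.card H) → Group.IsSolvable H)
  (hcls : ∀ (T : Type u) [Group T] [Finite T] [IsSimpleGroup T], (∃ a b : T, a * b ≠ b * a) → CIT T →
    CITList T)

variable {G : Type u} [Group G] [Finite G] {S : Type*} [Group S]

include hodd hcls in
theorem exists_socle_data
    (h : (∀ r : ℕ, r.Prime → (r ∣ Nat.card S ↔ r ∣ Nat.card G)) ∧
      (∀ r s : ℕ, r.Prime → s.Prime → r ≠ s →
        ((∃ x : S, orderOf x = r * s) ↔ (∃ y : G, orderOf y = r * s))))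
    (h2S : 2 ∣ Nat.card S)
    (hno : ∀ r : ℕ, r.Prime → r ≠ 2 → ¬ ∃ x : S, orderOf x = 2 * r)
    {r s : ℕ} (hr : r.Prime) (hs : s.Prime) (hr2 : r ≠ 2) (hs2 : s ≠ 2) (hrs : r ≠ s)
    (hrS : r ∣ Nat.card S) (hsS : s ∣ Nat.card S) (hnr : ¬ ∃ x : S, orderOf x = r * s) :
    ∃ T : Subgroup (G ⧸ Cfsg.pCore 2 G), Socle (G ⧸ Cfsg.pCore 2 G) (Nat.card S) T := by
  classical
  have h2 : Fact (Nat.Prime 2) := ⟨Nat.prime_two⟩
  have hG : CIT G := CIT.of_orders fun p hp hp2 hx =>
    hno p hp hp2 ((h.2 2 p Nat.prime_two hp (Ne.symm hp2)).2 hx)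
  have hns : ¬ Group.IsSolvable G := by
    intro hsol
    have hc : ∀ a ∈ ({2, r, s} : Finset ℕ), ∀ b ∈ ({2, r, s} : Finset ℕ), a ≠ b →
        ¬ ∃ x : G, orderOf x = a * b := by
      intro a ha b hb hab hx
      simp only [Finset.mem_insert, Finset.mem_singleton] at ha hb
      rcases ha with rfl | rfl | rfl <;> rcases hb with rfl | rfl | rfl
      all_goals first
        | exact hab rfl
        | exact hno _ (by assumption) (by assumption) ((h.2 2 _ Nat.prime_two (by assumption) hab).2 hx)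
        | exact hno _ (by assumption) (by assumption)
            ((h.2 2 _ Nat.prime_two (by assumption) hab.symm).2 (by rwa [mul_comm] at hx))
        | exact hnr ((h.2 _ _ hr hs hab).2 hx)
        | exact hnr ((h.2 _ _ hr hs hab.symm).2 (by rwa [mul_comm] at hx))
    have : Group.IsSolvable (⊤ : Subgroup G) := inferInstance
    exact hrs (PrimeGraph.coclique_solvable_normal {2, r, s}
      (by rw [Finset.card_insert_of_notMem (by simp [Ne.symm hr2, Ne.symm hs2]), Finset.card_pair hrs])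
      (by
        simp only [Finset.mem_insert, Finset.mem_singleton]
        rintro p (rfl | rfl | rfl)
        · exact ⟨Nat.prime_two, (h.1 2 Nat.prime_two).1 h2S⟩
        · exact ⟨hr, (h.1 _ hr).1 hrS⟩
        · exact ⟨hs, (h.1 _ hs).1 hsS⟩)
      hc ⊤ this r (by simp) s (by simp) (by rw [card_top]; exact (h.1 _ hr).1 hrS)
      (by rw [card_top]; exact (h.1 _ hs).1 hsS))
  have hp2 : IsPGroup 2 (Cfsg.pCore 2 G) := Core.pCore_isPGroup
  have hQ : CIT (G ⧸ Cfsg.pCore 2 G) := hG.quotient _ hp2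
  have hQns : ¬ Group.IsSolvable (G ⧸ Cfsg.pCore 2 G) := fun hs => hns (by
    have := hp2.isNilpotent
    exact Group.isSolvable_of_ker_le_range (Cfsg.pCore 2 G).subtype (QuotientGroup.mk' (Cfsg.pCore 2 G))
      (by rw [QuotientGroup.ker_mk', Subgroup.range_subtype]))
  have hO : ∀ N : Subgroup (G ⧸ Cfsg.pCore 2 G), N.Normal → IsPGroup 2 N → N = ⊥ := fun N hN hN2 =>
    le_bot_iff.1 (Core.pCore_quotient_eq_bot (p := 2) (G := G) ▸ Core.le_pCore hN2)
  obtain ⟨T, hTn, hTs, hTc, -⟩ := hQ.exists_socle hodd hQns hO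
  have hmul : Nat.card G = Nat.card T * T.index * Nat.card (Cfsg.pCore 2 G) := by
    rw [Subgroup.card_mul_index, ← card_eq_card_quotient_mul_card_subgroup]
  have hab : ∃ a b : T, a * b ≠ b * a := by
    by_contra! hh
    exact hTc ⟨⟨hh⟩⟩
  refine ⟨T, hTn, hQ, hcls T hab (hQ.subgroup T), fun p hp hp2' hd => (h.1 p hp).2 ?_,
    fun p hp hp2' hd => ?_, ?_⟩
  · rw [hmul]; exact (hd.mul_right _).mul_right _
  · have hd' := (h.1 p hp).1 hd
    rw [hmul] at hd'
    refine hp.dvd_mul.1 ((hp.dvd_mul.1 hd').resolve_right fun hd'' => hp2' ?_)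
    obtain ⟨j, hj⟩ := hp2.exists_card_eq
    exact (Nat.prime_dvd_prime_iff_eq hp Nat.prime_two).1 (hp.dvd_of_dvd_pow (hj ▸ hd''))
  · by_contra hd
    have := hodd T (Nat.odd_iff.2 (Nat.two_dvd_ne_zero.1 hd))
    exact hTc ⟨⟨IsSimpleGroup.comm_iff_isSolvable.2 this⟩⟩

end Reduce

end Cfsg.Agent.PrimeGraphCIT
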