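import Cfsg.Agent.LocalStructure.Zsigmondy

/-!
Arithmetic of the sets of odd prime divisors of `2 ^ n - 1`.
-/

set_option autoImplicit false

namespace Cfsg.Agent.PrimeGraphCIT

theorem primitive_dvd {r N M : ℕ} (hN : 0 < N) (hr : r ∣ 2 ^ N - 1)
    (hp : ∀ k : ℕ, 0 < k → k < N → ¬ r ∣ 2 ^ k - 1) (hM : r ∣ 2 ^ M - 1) : N ∣ M := by
  have hg := Nat.dvd_gcd hr hM
  rw [Nat.pow_sub_one_gcd_pow_sub_one] at hg
  have hpos : 0 < Nat.gcd N M := Nat.gcd_pos_of_pos_left M hN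
  have hle : Nat.gcd N M ≤ N := Nat.le_of_dvd hN (Nat.gcd_dvd_left N M)
  rcases hle.eq_or_lt with h | h
  · exact h ▸ Nat.gcd_dvd_right N M
  · exact absurd hg (hp _ hpos h)

/-- Primitive prime divisors. -/
theorem exists_primitive {N : ℕ} (hN : 3 ≤ N) (h6 : N ≠ 6) :
    ∃ r : ℕ, r.Prime ∧ r ≠ 2 ∧ N < r ∧ r ∣ 2 ^ N - 1 ∧ ∀ M, r ∣ 2 ^ M - 1 → N ∣ M := by
  obtain ⟨r, hr, hrd, hp⟩ := LocalStructure.zsigmondy (a := 2) (n := N) one_lt_two (by omega)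
    (by omega) (by omega)
  have h := fun M => primitive_dvd (M := M) (by omega : 0 < N) hrd hp
  have hr2 : r ≠ 2 := by
    rintro rfl
    obtain ⟨j, hj⟩ := hrd
    obtain ⟨i, hi⟩ : 2 ∣ 2 ^ N := dvd_pow_self 2 (by omega)
    have := Nat.one_le_two_pow (n := N)
    omega
  refine ⟨r, hr, hr2, ?_, hrd, h⟩
  have hcop : Nat.Coprime 2 r := (Nat.coprime_primes Nat.prime_two hr).2 (Ne.symm hr2)
  have hfer : r ∣ 2 ^ (r - 1) - 1 := (Nat.modEq_iff_dvd' Nat.one_le_two_pow).1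
    (Nat.totient_prime hr ▸ Nat.ModEq.pow_totient hcop).symm
  have := Nat.le_of_dvd (by have := hr.two_le; omega) (h _ hfer)
  omega

theorem sq_pow_sub_one (n : ℕ) : 2 ^ (2 * n) - 1 = (2 ^ n - 1) * (2 ^ n + 1) := by
  rw [mul_comm 2 n, pow_mul, mul_comm (2 ^ n - 1), ← Nat.sq_sub_sq, one_pow]

theorem dvd_sq_pow_sub_one {r n : ℕ} (h : r ∣ 2 ^ n + 1) : r ∣ 2 ^ (2 * n) - 1 :=
  sq_pow_sub_one n ▸ h.mul_left _

theorem three_dvd_sq_pow_sub_one (n : ℕ) : 3 ∣ 2 ^ (2 * n) - 1 := by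
  rw [pow_mul]
  have h := Nat.sub_dvd_pow_sub_pow (2 ^ 2) 1 n
  rwa [one_pow, show 2 ^ 2 - 1 = 3 from rfl] at h

/-- Odd primes dividing `|PSL(2,2^n)|` determine `n`. -/
theorem psl_exponent {m n : ℕ} (hm : 4 ≤ m) (hn : 0 < n)
    (h : ∀ r : ℕ, r.Prime → r ≠ 2 → (r ∣ 2 ^ (2 * n) - 1 ↔ r ∣ 2 ^ (2 * m) - 1)) : n = m := by
  obtain ⟨r, hr, hr2, -, hrd, hrM⟩ := exists_primitive (N := 2 * m) (by omega) (by omega)
  have h1 := Nat.le_of_dvd (by omega) (hrM _ ((h r hr hr2).2 hrd))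
  obtain ⟨s, hs, hs2, -, hsd, hsM⟩ := exists_primitive (N := 2 * n) (by omega) (by omega)
  have h2 := Nat.le_of_dvd (by omega) (hsM _ ((h s hs hs2).1 hsd))
  omega

theorem sz_dvd_pow_sub_one {v r : ℕ} (hr : r.Prime) (h : r ∣ (2 ^ v - 1) * (2 ^ (2 * v) + 1)) :
    r ∣ 2 ^ (4 * v) - 1 := by
  rw [show 4 * v = 2 * (2 * v) by ring, sq_pow_sub_one]
  rcases hr.dvd_mul.1 h with h | h
  · exact (h.trans (sq_pow_sub_one v ▸ dvd_mul_right _ _)).mul_right _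
  · exact h.mul_left _

theorem exists_primitive_sz {v : ℕ} (hv : 3 ≤ v) :
    ∃ r : ℕ, r.Prime ∧ r ≠ 2 ∧ r ∣ (2 ^ v - 1) * (2 ^ (2 * v) + 1) ∧
      ∀ M, r ∣ 2 ^ M - 1 → 4 * v ∣ M := by
  obtain ⟨r, hr, hr2, -, hrd, hrM⟩ := exists_primitive (N := 4 * v) (by omega) (by omega)
  refine ⟨r, hr, hr2, ?_, hrM⟩
  rw [show 4 * v = 2 * (2 * v) by ring, sq_pow_sub_one] at hrd
  rcases hr.dvd_mul.1 hrd with h | h
  · have := Nat.le_of_dvd (by omega) (hrM _ h)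
    omega
  · exact h.mul_left _

/-- Odd primes dividing `|Sz(2^v)|` determine `v`. -/
theorem sz_exponent {u v : ℕ} (hu : 3 ≤ u) (hv : 3 ≤ v)
    (h : ∀ r : ℕ, r.Prime → r ≠ 2 →
      (r ∣ (2 ^ v - 1) * (2 ^ (2 * v) + 1) ↔ r ∣ (2 ^ u - 1) * (2 ^ (2 * u) + 1))) : v = u := by
  obtain ⟨r, hr, hr2, hrd, hrM⟩ := exists_primitive_sz hu
  have h1 := Nat.le_of_dvd (by omega) (hrM _ (sz_dvd_pow_sub_one hr ((h r hr hr2).2 hrd)))
  obtain ⟨s, hs, hs2, hsd, hsM⟩ := exists_primitive_sz hv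
  have h2 := Nat.le_of_dvd (by omega) (hsM _ (sz_dvd_pow_sub_one hs ((h s hs hs2).1 hsd)))
  omega

/-- Groups all whose prime divisors are at most 7 are too small. -/
theorem small_false {m e n : ℕ} (hm : 4 ≤ m) (hn : ∀ r : ℕ, r.Prime → r ∣ n → r ≤ 7)
    (h7 : ¬ 2 ^ 7 ∣ n) (he : 0 < e) (hed : 2 ^ e ∣ n)
    (hS : ∀ r : ℕ, r.Prime → r ≠ 2 → r ∣ 2 ^ (2 * m) - 1 → r ∣ n ∨ r ∣ 2 ^ e - 1) : False := by
  obtain ⟨r, hr, hr2, hlt, hrd, hrM⟩ := exists_primitive (N := 2 * m) (by omega) (by omega)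
  rcases hS r hr hr2 hrd with h | h
  · have := hn r hr h
    omega
  · have := Nat.le_of_dvd he (hrM _ h)
    exact h7 ((pow_dvd_pow 2 (by omega)).trans hed)

theorem exponent_le {k e a : ℕ} (ha : ¬ 2 ∣ a) (h : 2 ^ e ∣ 2 ^ k * a) : e ≤ k :=
  (Nat.pow_dvd_pow_iff_le_right one_lt_two).1
    ((Nat.Coprime.pow_left e (Nat.prime_two.coprime_iff_not_dvd.2 ha)).dvd_of_dvd_mul_right h)

theorem not_two_dvd_two_pow_add_one {j : ℕ} (hj : 0 < j) : ¬ 2 ∣ 2 ^ j + 1 := by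
  obtain ⟨i, hi⟩ : 2 ∣ 2 ^ j := dvd_pow_self 2 (by omega)
  omega

/-- `PSL(2,p)` with `p` a Mersenne prime. -/
theorem mersenne_false {m k e p n : ℕ} (hm : 4 ≤ m) (hp : p.Prime) (hpk : p + 1 = 2 ^ k) (hp2 : p ≠ 2)
    (hn : 2 * n = p * (p ^ 2 - 1)) (he : 0 < e) (hed : 2 ^ e ∣ n)
    (hS : ∀ r : ℕ, r.Prime → r ≠ 2 → r ∣ 2 ^ (2 * m) - 1 → r ∣ n ∨ r ∣ 2 ^ e - 1)
    (hT : ∀ r : ℕ, r.Prime → r ≠ 2 → r ∣ n → r ∣ 2 ^ (2 * m) - 1) : False := by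
  have hk : 2 ≤ k := by
    by_contra hk
    have : 2 ^ k ≤ 2 ^ 1 := Nat.pow_le_pow_right two_pos (by omega)
    have := hp.two_le
    omega
  obtain ⟨j, rfl⟩ : ∃ j, k = j + 1 := ⟨k - 1, by omega⟩
  rw [pow_succ] at hpk
  have h2j : 2 ≤ 2 ^ j := Nat.le_self_pow (by omega) 2
  have hn' : n = 2 ^ (j + 1) * (p * (2 ^ j - 1)) := by
    have e1 : p ^ 2 - 1 = (p + 1) * (p - 1) := by simpa using Nat.sq_sub_sq p 1
    rw [e1, show p - 1 = 2 * (2 ^ j - 1) by omega, hpk] at hn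
    rw [pow_succ]
    nlinarith [hn]
  have hodd : ¬ 2 ∣ p * (2 ^ j - 1) := by
    rw [Nat.prime_two.dvd_mul, Nat.prime_dvd_prime_iff_eq Nat.prime_two hp]
    obtain ⟨i, hi⟩ : 2 ∣ 2 ^ j := dvd_pow_self 2 (by omega)
    omega
  have hek : e ≤ j + 1 := exponent_le hodd (hn' ▸ hed)
  have hpp : p = 2 ^ (j + 1) - 1 := by rw [pow_succ]; omega
  have hpd : p ∣ 2 ^ (2 * m) - 1 := hT p hp hp2 (hn' ▸ (dvd_mul_right p _).mul_left _)
  have hkm : j + 1 ∣ 2 * m := primitive_dvd (by omega) (hpp ▸ dvd_rfl) (fun i hi hlt hd => by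
    have h1 : 2 ^ i ≤ 2 ^ j := Nat.pow_le_pow_right two_pos (by omega)
    have h3 : 2 ≤ 2 ^ i := Nat.le_self_pow (by omega) 2
    have := Nat.le_of_dvd (by omega) hd
    omega) hpd
  have hkm' := Nat.le_of_dvd (by omega) hkm
  have hne : j + 1 ≠ 2 * m := fun h => by
    rw [h, sq_pow_sub_one] at hpp
    have : 16 ≤ 2 ^ m := Nat.pow_le_pow_right (n := 2) two_pos hm
    exact Nat.not_prime_mul (by omega) (by omega) (hpp ▸ hp)
  obtain ⟨r, hr, hr2, -, hrd, hrM⟩ := exists_primitive (N := 2 * m) (by omega) (by omega)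
  rcases hS r hr hr2 hrd with h | h
  · rw [hn'] at h
    rcases hr.dvd_mul.1 h with h | h
    · exact hr2 ((Nat.prime_dvd_prime_iff_eq hr Nat.prime_two).1 (hr.dvd_of_dvd_pow h))
    rcases hr.dvd_mul.1 h with h | h
    · have := Nat.le_of_dvd (by omega) (hrM (j + 1) (hpp ▸ h))
      omega
    · have := Nat.le_of_dvd (by omega) (hrM j h)
      omega
  · have := Nat.le_of_dvd he (hrM _ h)
    omega

/-- `PSL(2,p)` with `p` a Fermat prime. -/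
theorem fermat_case {m k e p n : ℕ} (hm : 4 ≤ m) (hp : p.Prime) (hpk : p = 2 ^ k + 1) (hk : 2 ≤ k)
    (hn : 2 * n = p * (p ^ 2 - 1)) (he : 0 < e) (hed : 2 ^ e ∣ n)
    (hS : ∀ r : ℕ, r.Prime → r ≠ 2 → r ∣ 2 ^ (2 * m) - 1 → r ∣ n ∨ r ∣ 2 ^ e - 1)
    (hT : ∀ r : ℕ, r.Prime → r ≠ 2 → r ∣ n → r ∣ 2 ^ (2 * m) - 1) :
    k = m ∧ e = m ∧ ¬ 2 ^ (m + 1) ∣ n := by
  obtain ⟨j, rfl⟩ : ∃ j, k = j + 1 := ⟨k - 1, by omega⟩
  have h2j : 2 ≤ 2 ^ j := Nat.le_self_pow (by omega) 2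
  have hpk' : p = 2 ^ j * 2 + 1 := by rw [← pow_succ, hpk]
  have hn' : n = 2 ^ (j + 1) * (p * (2 ^ j + 1)) := by
    have e1 : p ^ 2 - 1 = (p + 1) * (p - 1) := by simpa using Nat.sq_sub_sq p 1
    rw [e1, show p - 1 = 2 * 2 ^ j by omega] at hn
    rw [pow_succ]
    subst hpk'
    linarith [hn]
  have hodd : ¬ 2 ∣ p * (2 ^ j + 1) := by
    rw [Nat.prime_two.dvd_mul, Nat.prime_dvd_prime_iff_eq Nat.prime_two hp]
    have := not_two_dvd_two_pow_add_one (j := j) (by omega)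
    omega
  have hek : e ≤ j + 1 := exponent_le hodd (hn' ▸ hed)
  have hp2 : p ≠ 2 := by omega
  have hpd : p ∣ 2 ^ (2 * m) - 1 := hT p hp hp2 (hn' ▸ (dvd_mul_right p _).mul_left _)
  have hg : p ∣ 2 ^ Nat.gcd (2 * (j + 1)) (2 * m) - 1 := by
    rw [← Nat.pow_sub_one_gcd_pow_sub_one]
    exact Nat.dvd_gcd (dvd_sq_pow_sub_one (hpk ▸ dvd_rfl)) hpd
  rw [Nat.gcd_mul_left] at hg
  have hkm : j + 1 ∣ m := by
    rcases (Nat.gcd_dvd_left (j + 1) m) with ⟨c, hc⟩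
    rcases c with _ | _ | c
    · omega
    · have h := Nat.gcd_dvd_right (j + 1) m
      rw [zero_add, mul_one] at hc
      rwa [← hc] at h
    · have hle : 2 * Nat.gcd (j + 1) m ≤ j + 1 := by
        calc 2 * Nat.gcd (j + 1) m ≤ Nat.gcd (j + 1) m * (c + 1 + 1) := by
              rw [mul_comm]; exact Nat.mul_le_mul_left _ (by omega)
          _ = j + 1 := hc.symm
      have h0 : 0 < Nat.gcd (j + 1) m := Nat.gcd_pos_of_pos_left m (by omega)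
      have h4 : 2 ≤ 2 ^ (2 * Nat.gcd (j + 1) m) := Nat.le_self_pow (by omega) 2
      have h5 : 2 ^ (2 * Nat.gcd (j + 1) m) ≤ 2 ^ (j + 1) := Nat.pow_le_pow_right two_pos hle
      have := Nat.le_of_dvd (by omega) hg
      rw [hpk] at this
      omega
  have hkm' := Nat.le_of_dvd (by omega) hkm
  obtain ⟨r, hr, hr2, -, hrd, hrM⟩ := exists_primitive (N := 2 * m) (by omega) (by omega)
  have hkeq : j + 1 = m := by
    rcases hS r hr hr2 hrd with h | h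
    · rw [hn'] at h
      rcases hr.dvd_mul.1 h with h | h
      · exact absurd ((Nat.prime_dvd_prime_iff_eq hr Nat.prime_two).1 (hr.dvd_of_dvd_pow h)) hr2
      rcases hr.dvd_mul.1 h with h | h
      · have := Nat.le_of_dvd (by omega) (hrM _ (dvd_sq_pow_sub_one (hpk ▸ h)))
        omega
      · have := Nat.le_of_dvd (by omega) (hrM _ (dvd_sq_pow_sub_one h))
        omega
    · have := Nat.le_of_dvd he (hrM _ h)
      omega
  subst hkeq
  have hk6 : j + 1 ≠ 6 := fun h => by rw [h] at hpk; norm_num [hpk] at hp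
  obtain ⟨s, hs, hs2, -, hsd, hsM⟩ := exists_primitive (N := j + 1) (by omega) hk6
  have hsd' : s ∣ 2 ^ (2 * (j + 1)) - 1 := sq_pow_sub_one (j + 1) ▸ hsd.mul_right _
  refine ⟨rfl, ?_, fun hd => ?_⟩
  · rcases hS s hs hs2 hsd' with h | h
    · rw [hn'] at h
      rcases hs.dvd_mul.1 h with h | h
      · exact absurd ((Nat.prime_dvd_prime_iff_eq hs Nat.prime_two).1 (hs.dvd_of_dvd_pow h)) hs2
      rcases hs.dvd_mul.1 h with h | h
      · have h' := (Nat.prime_dvd_prime_iff_eq hs hp).1 h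
        have hpos : 0 < 2 ^ (j + 1) - 1 := by rw [pow_succ]; omega
        have := Nat.le_of_dvd hpos hsd
        rw [h', hpk] at this
        omega
      · obtain ⟨c, hc⟩ := hsM _ (dvd_sq_pow_sub_one h)
        rcases c with _ | _ | c <;> [omega; omega; nlinarith]
    · have := Nat.le_of_dvd he (hsM _ h)
      omega
  · have := exponent_le hodd (hn' ▸ hd)
    omega

/-- A number that is 3 mod 4 has a prime divisor that is 3 mod 4. -/
theorem exists_prime_three_mod_four (n : ℕ) (h : n % 4 = 3) :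
    ∃ r : ℕ, r.Prime ∧ r ∣ n ∧ r % 4 = 3 := by
  induction n using Nat.strong_induction_on with
  | _ n ih =>
    have hn : n ≠ 1 := by omega
    have hp := Nat.minFac_prime hn
    obtain ⟨c, hc⟩ := Nat.minFac_dvd n
    by_cases h3 : n.minFac % 4 = 3
    · exact ⟨_, hp, Nat.minFac_dvd n, h3⟩
    have h1 : n.minFac % 4 = 1 := by
      rcases hp.eq_two_or_odd with h2 | h2
      · rw [h2] at hc
        omega
      · omega
    have hc3 : c % 4 = 3 := by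
      have hm := Nat.mul_mod n.minFac c 4
      rw [← hc, h, h1, one_mul, Nat.mod_mod] at hm
      omega
    have hlt : c < n := by
      rw [hc]
      exact lt_mul_left (by omega) hp.one_lt
    obtain ⟨r, hr, hrd, hr3⟩ := ih c hlt hc3
    exact ⟨r, hr, hrd.trans (hc ▸ dvd_mul_left c _), hr3⟩

end Cfsg.Agent.PrimeGraphCIT
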