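import Cfsg.Agent.PrimeGraphCIT.Reduce

/-!
The outer part of an almost simple CIT-group.
-/

set_option autoImplicit false

namespace Cfsg.Agent.PrimeGraphCIT

open Subgroup

universe u

variable {G : Type u} [Group G] [Finite G]

omit [Finite G] in
theorem index_eq_relIndex_of_sup_eq_top {T N : Subgroup G} [T.Normal] (h : N ⊔ T = ⊤) :
    T.index = T.relIndex N := by
  rw [← relIndex_top_right, ← h, relIndex_sup_right]

omit [Finite G] in
theorem card_inf_normalizer {T : Subgroup G} (P : Subgroup T) :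
    Nat.card ↥(T ⊓ normalizer ((P.map T.subtype : Subgroup G) : Set G)) =
      Nat.card ↥(normalizer (P : Set T)) := by
  have h : ((normalizer (P : Set T)).map T.subtype) =
      T ⊓ normalizer ((P.map T.subtype : Subgroup G) : Set G) := by
    ext x
    constructor
    · rintro ⟨a, ha, rfl⟩
      exact ⟨a.2, (le_normalizer_map T.subtype) (mem_map_of_mem _ ha)⟩
    · rintro ⟨hxT, hxN⟩
      refine ⟨⟨x, hxT⟩, mem_normalizer_iff.2 fun b => ?_, rfl⟩
      have := mem_normalizer_iff.1 hxN (b : G)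
      have hmap : ∀ c : T, (c : G) ∈ P.map T.subtype ↔ c ∈ P := fun c =>
        mem_map_iff_mem T.subtype_injective
      exact (hmap b).symm.trans (this.trans (hmap (⟨x, hxT⟩ * b * ⟨x, hxT⟩⁻¹)))
  rw [← h, card_map_of_injective T.subtype_injective]

theorem eq_of_card_eq_of_cyclic {C : Type*} [Group C] [Finite C] [IsCyclic C] {A B : Subgroup C}
    (h : Nat.card A = Nat.card B) : A = B := by
  classical
  have := Fintype.ofFinite C
  have key : ∀ K : Subgroup C, Nat.card K = Nat.card A →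
      Finset.univ.filter (fun y => y ∈ K) = Finset.univ.filter (fun y : C => y ^ Nat.card A = 1) := by
    intro K hK
    refine Finset.eq_of_subset_of_card_le (fun y hy => ?_) ?_
    · simp only [Finset.mem_filter, Finset.mem_univ, true_and] at hy ⊢
      rw [← hK]
      exact congrArg Subtype.val (pow_card_eq_one' (x := (⟨y, hy⟩ : K)))
    · refine (IsCyclic.card_pow_eq_one_le Nat.card_pos).trans (le_of_eq ?_)
      rw [← hK, Nat.card_eq_fintype_card, Fintype.card_subtype]
  ext y
  have := congrArg (fun s : Finset C => y ∈ s) ((key A rfl).trans (key B h.symm).symm)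
  simpa using this

/-- The normaliser of a Sylow 2-subgroup of `T` acts semiregularly with its Sylow subgroups of odd order
on the central involutions. -/
theorem CIT.sylow_normalizer_dvd (h : CIT G) (T : Subgroup G) (P : Sylow 2 T) {c : ℕ}
    (hc : Nat.card (center (P : Subgroup T)) = c) {r : ℕ} (hr : r.Prime) (hr2 : r ≠ 2)
    (R : Sylow r ↥(normalizer (((P : Subgroup T).map T.subtype : Subgroup G) : Set G))) :
    Nat.card R ∣ c - 1 := by
  have h2 : Fact (Nat.Prime 2) := ⟨Nat.prime_two⟩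
  have := Fact.mk hr
  revert R
  set Ph : Subgroup G := (P : Subgroup T).map T.subtype
  intro R
  set Z : Subgroup G := ((center (P : Subgroup T)).map (P : Subgroup T).subtype).map T.subtype
  have hZle : Z ≤ Ph := map_mono (map_subtype_le _)
  have hZc : Nat.card Z = c := by
    rw [card_map_of_injective T.subtype_injective,
      card_map_of_injective (P : Subgroup T).subtype_injective, hc]
  have hmemZ : ∀ z, z ∈ Z ↔ z ∈ Ph ∧ ∀ y ∈ Ph, y * z = z * y := by
    intro z
    constructor
    · intro hz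
      refine ⟨hZle hz, ?_⟩
      obtain ⟨_, ⟨a, ha, rfl⟩, rfl⟩ := hz
      rintro _ ⟨b, hb, rfl⟩
      exact congrArg (fun x : (P : Subgroup T) => ((x : T) : G)) (mem_center_iff.1 ha ⟨b, hb⟩)
    · rintro ⟨⟨a, ha, rfl⟩, hz⟩
      exact ⟨a, ⟨⟨a, ha⟩, mem_center_iff.2 fun b => Subtype.ext (Subtype.ext
        (hz _ (mem_map_of_mem T.subtype b.2))), rfl⟩, rfl⟩
  have hconj : ∀ g : ↥(normalizer (Ph : Set G)), ∀ z ∈ Z, (g : G) * z * (g : G)⁻¹ ∈ Z := by
    intro g z hz
    obtain ⟨hzP, hzc⟩ := (hmemZ z).1 hz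
    refine (hmemZ _).2 ⟨(mem_normalizer_iff.1 g.2 z).1 hzP, fun y hy => ?_⟩
    have hy' := (mem_normalizer_iff''.1 g.2 y).1 hy
    calc y * ((g : G) * z * (g : G)⁻¹) = g * (((g : G)⁻¹ * y * g) * z) * (g : G)⁻¹ := by group
      _ = _ := by rw [hzc _ hy']; group
  let S := {z : Z // z ≠ 1}
  let : MulAction R S :=
    { smul := fun g z => ⟨⟨((g : ↥(normalizer (Ph : Set G))) : G) * z.1.1 * ((g : ↥(normalizer (Ph : Set G))) : G)⁻¹, hconj _ _ z.1.2⟩, fun e => z.2
        (Subtype.ext (conj_eq_one_iff.1 (congrArg Subtype.val e)))⟩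
      one_smul := fun z => Subtype.ext (Subtype.ext (by
        show ((1 : ↥(normalizer (Ph : Set G))) : G) * z.1.1 * ((1 : ↥(normalizer (Ph : Set G))) : G)⁻¹ = z.1.1; simp))
      mul_smul := fun a b z => Subtype.ext (Subtype.ext (by
        show ((a * b : R) : ↥(normalizer (Ph : Set G))).1 * z.1.1 * (((a * b : R) : ↥(normalizer (Ph : Set G))).1)⁻¹ =
          (a : ↥(normalizer (Ph : Set G))).1 * ((b : ↥(normalizer (Ph : Set G))).1 * z.1.1 * ((b : ↥(normalizer (Ph : Set G))).1)⁻¹) * ((a : ↥(normalizer (Ph : Set G))).1)⁻¹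
        simp [mul_assoc])) }
  have hfree : ∀ z : S, MulAction.stabilizer R z = ⊥ := by
    intro z
    rw [Subgroup.eq_bot_iff_forall]
    intro g hg
    by_contra hg1
    have hcm : Commute ((g : ↥(normalizer (Ph : Set G))) : G) z.1.1 :=
      mul_inv_eq_iff_eq_mul.1 (congrArg (fun x : S => x.1.1) (MulAction.mem_stabilizer_iff.1 hg))
    obtain ⟨i, hi⟩ := R.isPGroup' g
    obtain ⟨j, -, hj⟩ := (Nat.dvd_prime_pow hr).1 (orderOf_dvd_of_pow_eq_one hi)
    have hj0 : j ≠ 0 := by rintro rfl; exact hg1 (orderOf_eq_one_iff.1 (by rw [hj, pow_zero]))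
    have hrx : r ∣ orderOf ((g : ↥(normalizer (Ph : Set G))) : G) := by
      rw [Subgroup.orderOf_coe, Subgroup.orderOf_coe, hj]; exact dvd_pow_self r hj0
    obtain ⟨a, ha⟩ := ((P.isPGroup'.map T.subtype).to_le hZle) z.1
    exact h.no_commute (fun e => z.2 (Subtype.ext e)) ⟨a, congrArg Subtype.val ha⟩ hr hr2
      (orderOf_pow_orderOf_div (orderOf_pos _).ne' hrx) (hcm.symm.pow_right _)
  refine ⟨Nat.card (Quotient (MulAction.orbitRel R S)), ?_⟩
  rw [mul_comm, ← Nat.card_prod, ← Nat.card_congr (MulAction.selfEquivOrbitsQuotientProd hfree)]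
  classical
  have := Fintype.ofFinite Z
  rw [← hZc, Nat.card_eq_fintype_card, Nat.card_eq_fintype_card, Fintype.card_subtype_compl,
    Fintype.card_subtype_eq]

/-- An odd prime dividing the index of `T` divides the number of central involutions. -/
theorem CIT.index_prime_dvd (h : CIT G) (T : Subgroup G) [T.Normal] (P : Sylow 2 T) {c : ℕ}
    (hc : Nat.card (center (P : Subgroup T)) = c) {r : ℕ} (hr : r.Prime) (hr2 : r ≠ 2)
    (hrd : r ∣ T.index) : r ∣ c - 1 := by
  have := Fact.mk hr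
  have h2 : Fact (Nat.Prime 2) := ⟨Nat.prime_two⟩
  set Ph : Subgroup G := (P : Subgroup T).map T.subtype
  have hsup : normalizer (Ph : Set G) ⊔ T = ⊤ := Sylow.normalizer_sup_eq_top P
  rw [index_eq_relIndex_of_sup_eq_top hsup] at hrd
  let R : Sylow r ↥(normalizer (Ph : Set G)) := default
  obtain ⟨j, hj⟩ := R.isPGroup'.exists_card_eq
  have hj0 : j ≠ 0 := fun e => R.ne_bot_of_dvd_card
    (hrd.trans ((inf_relIndex_right T _).symm.dvd.trans (relIndex_dvd_card _ _)))
    (Subgroup.eq_bot_of_card_eq _ (by rw [hj, e, pow_zero]))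
  exact (dvd_pow_self r hj0).trans (hj ▸ h.sylow_normalizer_dvd T P hc hr hr2 R)

/-- The outer part is a 2-group if the normaliser of a Sylow 2-subgroup is as large as it can be. -/
theorem CIT.index_two_pow (h : CIT G) (T : Subgroup G) [T.Normal] (P : Sylow 2 T) {c : ℕ}
    (hc : Nat.card (center (P : Subgroup T)) = c)
    (hN : Nat.card ↥(normalizer ((P : Subgroup T) : Set T)) = Nat.card P * (c - 1)) :
    ∃ k, T.index = 2 ^ k := by
  have h2 : Fact (Nat.Prime 2) := ⟨Nat.prime_two⟩
  set Ph : Subgroup G := (P : Subgroup T).map T.subtype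
  set N := normalizer (Ph : Set G)
  have hsup : N ⊔ T = ⊤ := Sylow.normalizer_sup_eq_top P
  refine ⟨T.index.primeFactorsList.length,
    Nat.eq_prime_pow_of_unique_prime_dvd index_ne_zero_of_finite fun {r} hr hrd => ?_⟩
  by_contra hr2
  have := Fact.mk hr
  rw [index_eq_relIndex_of_sup_eq_top hsup] at hrd
  have hmul : Nat.card ↥(T ⊓ N) * T.relIndex N = Nat.card N := by
    rw [← inf_relIndex_right, ← relIndex_bot_left, ← relIndex_bot_left,
      relIndex_mul_relIndex _ _ _ bot_le inf_le_right]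
  rw [card_inf_normalizer, hN] at hmul
  let R : Sylow r N := default
  have hRdvd : Nat.card R ∣ c - 1 := h.sylow_normalizer_dvd T P hc hr hr2 R
  obtain ⟨d, hd⟩ := hrd
  have hval : r * Nat.card R ∣ Nat.card N := by
    rw [← hmul, hd, mul_comm r d, ← mul_assoc, mul_comm r]
    exact mul_dvd_mul_right ((hRdvd.mul_left _).trans (dvd_mul_right _ d)) r
  exact Sylow.not_dvd_index R (by
    rw [← Subgroup.card_mul_index (R : Subgroup N), mul_comm r] at hval
    exact Nat.dvd_of_mul_dvd_mul_left Nat.card_pos hval)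

/-- The outer part is trivial. -/
theorem CIT.eq_top_of_cyclic (h : CIT G) (T : Subgroup G) [T.Normal] {k : ℕ}
    (hk : T.index = 2 ^ k) {r : ℕ} (hr : r.Prime) (hr2 : r ≠ 2) (hr4 : ¬ 4 ∣ r - 1)
    (hrT : r ∣ Nat.card T)
    (hcyc : ∀ x : T, orderOf x = r → IsCyclic (centralizer ({x} : Set T)))
    (hinv : ∀ x : T, orderOf x = r → ∃ w : T, w * x * w⁻¹ = x⁻¹) : T = ⊤ := by
  have := Fact.mk hr
  have h2 : Fact (Nat.Prime 2) := ⟨Nat.prime_two⟩
  let R : Sylow r T := default
  have hRne : (R : Subgroup T) ≠ ⊥ := R.ne_bot_of_dvd_card hrT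
  have : Nontrivial R := (nontrivial_iff_ne_bot _).2 hRne
  obtain ⟨z, hz⟩ : ∃ z : center (R : Subgroup T), orderOf z = r := by
    have := R.isPGroup'.center_nontrivial
    obtain ⟨j, hj0, hj⟩ := (R.isPGroup'.to_subgroup (center (R : Subgroup T))).nontrivial_iff_card.1 this
    exact exists_prime_orderOf_dvd_card' r (hj ▸ dvd_pow_self r hj0.ne')
  set x : T := ((z : (R : Subgroup T)) : T)
  have hx : orderOf x = r := (Subgroup.orderOf_coe _).trans ((Subgroup.orderOf_coe _).trans hz)
  have := hcyc x hx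
  have hle : (R : Subgroup T) ≤ centralizer ({x} : Set T) := fun y hy =>
    mem_centralizer_singleton_iff.2 (congrArg Subtype.val (mem_center_iff.1 z.2 ⟨y, hy⟩))
  have hcR : IsCyclic R := isCyclic_of_injective (Subgroup.inclusion hle) (Subgroup.inclusion_injective hle)
  obtain ⟨w, hw⟩ := hinv x hx
  have hwR : w ∈ normalizer ((R : Subgroup T) : Set T) := by
    have hle' : (R : Subgroup T).map (MulAut.conj w).toMonoidHom ≤ centralizer ({x} : Set T) := by
      rintro _ ⟨y, hy, rfl⟩
      refine mem_centralizer_singleton_iff.2 ?_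
      have h1 : Commute y x := mem_centralizer_singleton_iff.1 (hle hy)
      have h3 := (h1.inv_right).map (MulAut.conj w).toMonoidHom
      simp only [MulEquiv.coe_toMonoidHom, MulAut.conj_apply] at h3
      have hw' : w * x⁻¹ * w⁻¹ = x := by
        rw [show w * x⁻¹ * w⁻¹ = (w * x * w⁻¹)⁻¹ by group, hw, inv_inv]
      rw [hw'] at h3
      exact h3.eq
    have hcard : Nat.card ↥((R : Subgroup T).map (MulAut.conj w).toMonoidHom) =
        Nat.card (R : Subgroup T) := card_map_of_injective (MulAut.conj w).injective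
    have heq : (R : Subgroup T).map (MulAut.conj w).toMonoidHom = R := by
      have e : ((R : Subgroup T).map (MulAut.conj w).toMonoidHom).subgroupOf (centralizer ({x} : Set T)) =
          (R : Subgroup T).subgroupOf (centralizer ({x} : Set T)) := by
        refine eq_of_card_eq_of_cyclic ?_
        rw [Nat.card_congr (subgroupOfEquivOfLe hle').toEquiv, Nat.card_congr (subgroupOfEquivOfLe hle).toEquiv,
          hcard]
      rw [subgroupOf_inj, inf_eq_left.2 hle', inf_eq_left.2 hle] at e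
      exact e
    rw [mem_normalizer_iff]
    intro y
    conv_rhs => rw [← heq]
    simp [Subgroup.mem_map]
  have hweven : 2 ∣ orderOf w := by
    by_contra ho
    have hsq : (w ^ 2) * x * (w ^ 2)⁻¹ = x := by
      calc (w ^ 2) * x * (w ^ 2)⁻¹ = w * (w * x * w⁻¹) * w⁻¹ := by simp only [pow_two, mul_inv_rev, mul_assoc]
        _ = w * x⁻¹ * w⁻¹ := by rw [hw]
        _ = (w * x * w⁻¹)⁻¹ := by group
        _ = x := by rw [hw, inv_inv]
    have hc2 : Commute (w ^ 2) x := mul_inv_eq_iff_eq_mul.1 hsq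
    obtain ⟨j, hj⟩ : ∃ j, orderOf w = 2 * j + 1 := ⟨orderOf w / 2, by omega⟩
    have hw1 : w = (w ^ 2) ^ (j + 1) := by
      rw [← pow_mul, show 2 * (j + 1) = orderOf w + 1 by omega, pow_succ, pow_orderOf_eq_one, one_mul]
    have hcw : Commute w x := by rw [hw1]; exact hc2.pow_left _
    have hxi : x = x⁻¹ := by rwa [hcw.eq, mul_inv_cancel_right] at hw
    have hx2 : x ^ 2 = 1 := by rw [pow_two]; exact eq_inv_iff_mul_eq_one.1 hxi
    exact hr2 ((Nat.prime_dvd_prime_iff_eq hr Nat.prime_two).1 (hx ▸ orderOf_dvd_of_pow_eq_one hx2))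
  set Rh : Subgroup G := (R : Subgroup T).map T.subtype
  set N := normalizer (Rh : Set G)
  have hsup : N ⊔ T = ⊤ := Sylow.normalizer_sup_eq_top R
  have hmul : Nat.card ↥(T ⊓ N) * T.index = Nat.card N := by
    rw [index_eq_relIndex_of_sup_eq_top hsup, ← inf_relIndex_right, ← relIndex_bot_left,
      ← relIndex_bot_left, relIndex_mul_relIndex _ _ _ bot_le inf_le_right]
  rcases k with _ | k
  · exact index_eq_one.1 (by rw [hk, pow_zero])
  exfalso
  have h4 : 4 ∣ Nat.card N := by
    rw [← hmul, card_inf_normalizer, hk]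
    have : 2 ∣ Nat.card ↥(normalizer ((R : Subgroup T) : Set T)) :=
      hweven.trans ((Subgroup.orderOf_mk w hwR).symm.dvd.trans (orderOf_dvd_natCard _))
    exact Nat.mul_dvd_mul this (dvd_pow_self 2 k.succ_ne_zero)
  have hRh : IsCyclic Rh :=
    ((R : Subgroup T).equivMapOfInjective T.subtype T.subtype_injective).isCyclic.1 hcR
  let φ : N →* MulAut Rh :=
    { toFun := fun g =>
        { toFun := fun y => ⟨(g : G) * y * (g : G)⁻¹, (mem_normalizer_iff.1 g.2 _).1 y.2⟩
          invFun := fun y => ⟨(g : G)⁻¹ * y * g, (mem_normalizer_iff''.1 g.2 _).1 y.2⟩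
          left_inv := fun y => Subtype.ext (by simp [mul_assoc])
          right_inv := fun y => Subtype.ext (by simp [mul_assoc])
          map_mul' := fun y y' => Subtype.ext (by simp [mul_assoc]) }
      map_one' := MulEquiv.ext fun y => Subtype.ext (by simp)
      map_mul' := fun g g' => MulEquiv.ext fun y => Subtype.ext (by simp [mul_assoc]) }
  have hker : ¬ 2 ∣ Nat.card φ.ker := by
    intro hd
    obtain ⟨⟨c, hc⟩, hc2⟩ := exists_prime_orderOf_dvd_card' (G := φ.ker) 2 hd
    rw [Subgroup.orderOf_mk, ← Subgroup.orderOf_coe] at hc2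
    have hxR : (x : G) ∈ Rh := mem_map_of_mem _ (z : (R : Subgroup T)).2
    have e := congrArg (fun f : MulAut Rh => ((f ⟨x, hxR⟩ : Rh) : G)) (MonoidHom.mem_ker.1 hc)
    have hcm : Commute (c : G) (x : G) := mul_inv_eq_iff_eq_mul.1 (by simpa [φ] using e)
    exact h.no_commute (fun e => by rw [e, orderOf_one] at hc2; norm_num at hc2)
      ⟨1, by rw [pow_one, ← hc2, pow_orderOf_eq_one]⟩ hr hr2 (by rw [Subgroup.orderOf_coe, hx]) hcm
  have hrange : Nat.card φ.range ∣ Nat.totient (Nat.card Rh) :=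
    IsCyclic.card_mulAut Rh ▸ φ.range.card_subgroup_dvd_card
  rw [card_map_of_injective T.subtype_injective] at hrange
  obtain ⟨a, ha⟩ := R.isPGroup'.exists_card_eq
  have ha0 : 0 < a := Nat.pos_of_ne_zero fun e => hRne (Subgroup.eq_bot_of_card_eq _ (by rw [ha, e, pow_zero]))
  rw [ha, Nat.totient_prime_pow hr ha0] at hrange
  have hN : Nat.card N = Nat.card φ.ker * Nat.card φ.range := by
    rw [← Nat.card_congr (QuotientGroup.quotientKerEquivRange φ).toEquiv, mul_comm,
      ← φ.ker.card_eq_card_quotient_mul_card_subgroup]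
  rw [hN] at h4
  have h4' : 4 ∣ Nat.card φ.range :=
    (Nat.Coprime.dvd_of_dvd_mul_left (Nat.Coprime.pow_left 2
      (Nat.prime_two.coprime_iff_not_dvd.2 hker) : Nat.Coprime (2 ^ 2) (Nat.card φ.ker)) h4)
  exact hr4 ((Nat.Coprime.pow 2 (a - 1) ((Nat.coprime_primes Nat.prime_two hr).2 (Ne.symm hr2))
    : Nat.Coprime (2 ^ 2) (r ^ (a - 1))).dvd_of_dvd_mul_left (h4'.trans hrange))

end Cfsg.Agent.PrimeGraphCIT
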