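import Cfsg.Agent.Classical.LinearBasic

/-!
Sylow 2-subgroups of PSL(2,q) when 8 divides q - 1.
-/

set_option autoImplicit false

namespace Cfsg.Agent.PrimeGraphCIT

open Matrix

variable {F : Type*} [Field F] [Fintype F]

local notation "PG" => Matrix.ProjectiveSpecialLinearGroup (Fin 2) F

/-- Sylow 2-subgroups of `PSL(2,q)` are non-abelian if `q = 2 ^ k + 1` with `3 ≤ k`. -/
theorem psl_sylow_not_comm {k : ℕ} (hk : 3 ≤ k) (hF : Fintype.card F = 2 ^ k + 1) (P : Sylow 2 PG) :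
    ¬ ∀ x ∈ (P : Subgroup PG), ∀ y ∈ (P : Subgroup PG), x * y = y * x := by
  classical
  intro hab
  have h2 : Fact (Nat.Prime 2) := ⟨Nat.prime_two⟩
  obtain ⟨a, ha⟩ := IsCyclic.exists_ofOrder_eq_natCard (α := Fˣ)
  rw [Nat.card_eq_fintype_card (α := Fˣ), Fintype.card_units, hF, Nat.add_sub_cancel] at ha
  let dSL : SpecialLinearGroup (Fin 2) F := ⟨!![(a : F), 0; 0, ((a⁻¹ : Fˣ) : F)], by simp [det_fin_two]⟩
  let wSL : SpecialLinearGroup (Fin 2) F := ⟨!![0, 1; -1, 0], by simp [det_fin_two]⟩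
  let π : SpecialLinearGroup (Fin 2) F →* PG :=
    QuotientGroup.mk' (Subgroup.center (SpecialLinearGroup (Fin 2) F))
  have hdpow : ∀ n : ℕ, ((dSL ^ n : SpecialLinearGroup (Fin 2) F) : Matrix (Fin 2) (Fin 2) F) =
      !![((a ^ n : Fˣ) : F), 0; 0, (((a ^ n)⁻¹ : Fˣ) : F)] := by
    intro n
    induction n with
    | zero => ext i j; fin_cases i <;> fin_cases j <;> simp
    | succ n ih =>
      rw [pow_succ, Matrix.SpecialLinearGroup.coe_mul, ih]
      ext i j
      fin_cases i <;> fin_cases j <;> simp [dSL, Matrix.mul_apply, Fin.sum_univ_two, pow_succ, mul_comm]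
  have hd1 : dSL ^ (2 ^ k) = 1 := by
    refine Subtype.ext ?_
    rw [hdpow, ← ha, pow_orderOf_eq_one]
    ext i j; fin_cases i <;> fin_cases j <;> simp
  have hw4 : wSL ^ 4 = 1 := by
    refine Subtype.ext ?_
    rw [Matrix.SpecialLinearGroup.coe_pow]
    ext i j
    fin_cases i <;> fin_cases j <;>
      simp [wSL, pow_succ, Matrix.mul_apply, Fin.sum_univ_two]
  have hconj : wSL * dSL = dSL⁻¹ * wSL := by
    refine Subtype.ext ?_
    rw [Matrix.SpecialLinearGroup.coe_mul, Matrix.SpecialLinearGroup.coe_mul,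
      Matrix.SpecialLinearGroup.coe_inv]
    ext i j
    fin_cases i <;> fin_cases j <;>
      simp [wSL, dSL, Matrix.adjugate_fin_two, Matrix.mul_apply, Fin.sum_univ_two]
  set c : PG := π dSL
  set w : PG := π wSL
  have hK : IsPGroup 2 (Subgroup.zpowers c) := fun ⟨x, hx⟩ => ⟨k, Subtype.ext (by
    obtain ⟨i, rfl⟩ := Subgroup.mem_zpowers_iff.1 hx
    show (c ^ i) ^ 2 ^ k = 1
    rw [← zpow_natCast, ← _root_.zpow_mul, mul_comm, _root_.zpow_mul, zpow_natCast, ← map_pow, hd1, map_one, _root_.one_zpow])⟩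
  have hH : IsPGroup 2 (Subgroup.zpowers w) := fun ⟨x, hx⟩ => ⟨2, Subtype.ext (by
    obtain ⟨i, rfl⟩ := Subgroup.mem_zpowers_iff.1 hx
    show (w ^ i) ^ 2 ^ 2 = 1
    rw [← zpow_natCast, ← _root_.zpow_mul, mul_comm, _root_.zpow_mul, zpow_natCast,
      show (2 : ℕ) ^ 2 = 4 from rfl, ← map_pow, hw4, map_one, _root_.one_zpow])⟩
  have hwc : w * c * w⁻¹ = c⁻¹ := by
    rw [mul_inv_eq_iff_eq_mul, ← map_mul, hconj, map_mul, map_inv]
  have hle : Subgroup.zpowers w ≤ Subgroup.normalizer (Subgroup.zpowers c : Set PG) := by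
    rw [Subgroup.zpowers_le, Subgroup.mem_normalizer_iff_conj_image_eq]
    apply Set.Subset.antisymm
    · rintro _ ⟨y, hy, rfl⟩
      obtain ⟨i, rfl⟩ := Subgroup.mem_zpowers_iff.1 (SetLike.mem_coe.1 hy)
      rw [MulAut.conj_apply, ← conj_zpow, hwc]
      exact Subgroup.zpow_mem _ (Subgroup.inv_mem _ (Subgroup.mem_zpowers c)) i
    · intro y hy
      obtain ⟨i, rfl⟩ := Subgroup.mem_zpowers_iff.1 (SetLike.mem_coe.1 hy)
      refine ⟨c ^ (-i), Subgroup.zpow_mem _ (Subgroup.mem_zpowers c) _, ?_⟩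
      rw [MulAut.conj_apply, ← conj_zpow, hwc, _root_.inv_zpow', neg_neg]
  obtain ⟨Q, hQ⟩ := (hH.to_sup_of_normal_right' hK hle).exists_le_sylow
  obtain ⟨g, rfl⟩ := MulAction.exists_smul_eq PG P Q
  have hcQ := hQ ((le_sup_right : Subgroup.zpowers c ≤ _) (Subgroup.mem_zpowers c))
  have hwQ := hQ ((le_sup_left : Subgroup.zpowers w ≤ _) (Subgroup.mem_zpowers w))
  rw [Sylow.coe_subgroup_smul, Subgroup.mem_pointwise_smul_iff_inv_smul_mem] at hcQ hwQ
  have hcomm : w * c = c * w := by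
    have h := hab _ hwQ _ hcQ
    rw [← smul_mul', ← smul_mul'] at h
    exact smul_left_cancel (MulAut.conj g)⁻¹ h
  rw [← map_mul, ← map_mul, QuotientGroup.mk'_apply, QuotientGroup.mk'_apply, QuotientGroup.eq] at hcomm
  obtain ⟨r, -, hr⟩ := (Matrix.SpecialLinearGroup.mem_center_iff).1 hcomm
  have hm : ((wSL * dSL : SpecialLinearGroup (Fin 2) F) : Matrix (Fin 2) (Fin 2) F) *
      scalar (Fin 2) r = ((dSL * wSL : SpecialLinearGroup (Fin 2) F) : Matrix (Fin 2) (Fin 2) F) := by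
    rw [hr, ← Matrix.SpecialLinearGroup.coe_mul, mul_inv_cancel_left]
  rw [Matrix.SpecialLinearGroup.coe_mul, Matrix.SpecialLinearGroup.coe_mul] at hm
  have e01 := congrFun (congrFun hm 0) 1
  have e10 := congrFun (congrFun hm 1) 0
  simp [wSL, dSL, Matrix.mul_apply, Fin.sum_univ_two] at e01 e10
  have h4 : (a : F) ^ 4 = 1 := by
    have e1 : r = (a : F) * a := by
      field_simp at e01
      linear_combination e01
    have e2 : r * (a : F) * a = 1 := by
      field_simp at e10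
      linear_combination e10
    rw [e1] at e2
    linear_combination e2
  have := orderOf_dvd_of_pow_eq_one (Units.ext (by simpa using h4) : a ^ 4 = 1)
  rw [ha] at this
  have h8 : 2 ^ 3 ≤ 2 ^ k := Nat.pow_le_pow_right two_pos hk
  have := Nat.le_of_dvd (by omega) this
  omega

end Cfsg.Agent.PrimeGraphCIT
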