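import Cfsg.Agent.PrimeGraphCIT.Arith
import Cfsg.Agent.PrimeGraphCIT.Cases
import Cfsg.Agent.PrimeGraphCIT.PSLOdd

/-!
Recognition of Suzuki groups and PSL(2,2^m) by the prime graph, given the classification of simple
CIT-groups.
-/

set_option autoImplicit false

namespace Cfsg.Agent.PrimeGraphCIT

open Subgroup

universe u v

variable (hodd : ∀ (H : Type u) [Group H] [Finite H], Odd (Nat.card H) → Group.IsSolvable H)
  (hcls : ∀ (T : Type u) [Group T] [Finite T] [IsSimpleGroup T], (∃ a b : T, a * b ≠ b * a) → CIT T →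
    CITList T)

theorem orderOf_exists_iff {A B : Type*} [Group A] [Group B] (e : A ≃* B) (n : ℕ) :
    (∃ x : A, orderOf x = n) ↔ ∃ y : B, orderOf y = n :=
  ⟨fun ⟨x, hx⟩ => ⟨e x, by rw [MulEquiv.orderOf_eq, hx]⟩,
    fun ⟨y, hy⟩ => ⟨e.symm y, by rw [MulEquiv.orderOf_eq, hy]⟩⟩

include hodd hcls in
theorem psl_recognition {F : Type v} [Field F] [Fintype F] (m : ℕ) (hm : 4 ≤ m)
    (hF : Fintype.card F = 2 ^ m) {G : Type u} [Group G] [Finite G]
    (h : ((∀ r : ℕ, r.Prime → (r ∣ Nat.card (Matrix.ProjectiveSpecialLinearGroup (Fin 2) F) ↔ r ∣ Nat.card G)) ∧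
      (∀ r s : ℕ, r.Prime → s.Prime → r ≠ s → ((∃ x : (Matrix.ProjectiveSpecialLinearGroup (Fin 2) F), orderOf x = r * s) ↔ (∃ y : G, orderOf y = r * s))))) :
    Nonempty (G ⧸ Cfsg.pCore 2 G ≃* Matrix.ProjectiveSpecialLinearGroup (Fin 2) F) := by
  classical
  have := charP_two_of_card hF
  have hcard : Nat.card (Matrix.ProjectiveSpecialLinearGroup (Fin 2) F) = 2 ^ m * (2 ^ (2 * m) - 1) := by
    rw [card_psl_even, hF, mul_comm 2 m, pow_mul, mul_comm (2 ^ m - 1), ← Nat.sq_sub_sq, one_pow]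
  have hq : 16 ≤ 2 ^ m := Nat.pow_le_pow_right (n := 2) two_pos hm
  have hS : ∀ r : ℕ, r.Prime → r ≠ 2 →
      (r ∣ Nat.card (Matrix.ProjectiveSpecialLinearGroup (Fin 2) F) ↔ r ∣ 2 ^ (2 * m) - 1) := by
    intro r hr hr2
    rw [hcard, hr.dvd_mul, or_iff_right fun h =>
      hr2 ((Nat.prime_dvd_prime_iff_eq hr Nat.prime_two).1 (hr.dvd_of_dvd_pow h))]
  have h2S : 2 ∣ Nat.card (Matrix.ProjectiveSpecialLinearGroup (Fin 2) F) :=
    hcard ▸ (dvd_pow_self 2 (by omega : m ≠ 0)).mul_right _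
  obtain ⟨i, hi⟩ : 2 ∣ 2 ^ m := dvd_pow_self 2 (by omega)
  obtain ⟨r, hr, hrd⟩ := Nat.exists_prime_and_dvd (n := 2 ^ m - 1) (by omega)
  obtain ⟨s, hs, hsd⟩ := Nat.exists_prime_and_dvd (n := 2 ^ m + 1) (by omega)
  have hr2 : r ≠ 2 := by rintro rfl; omega
  have hs2 : s ≠ 2 := by rintro rfl; omega
  have hrs : r ≠ s := by
    rintro rfl
    have h2 := Nat.dvd_sub hsd hrd
    rw [show 2 ^ m + 1 - (2 ^ m - 1) = 2 by omega] at h2
    exact hr2 ((Nat.prime_dvd_prime_iff_eq hr Nat.prime_two).1 h2)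
  obtain ⟨T, D⟩ := exists_socle_data hodd hcls h h2S (fun p hp hp2 => psl_no_two_mul hp hp2)
    hr hs hr2 hs2 hrs ((hS r hr hr2).2 (sq_pow_sub_one m ▸ hrd.mul_right _))
    ((hS s hs hs2).2 (dvd_sq_pow_sub_one hsd)) (psl_nonadjacent hr hs hr2 (hF ▸ hrd) (hF ▸ hsd))
  have hTn := D.normal
  obtain ⟨e, he, hed, hce⟩ := exists_centreLog T D.even
  have hbnd : ∀ r : ℕ, r.Prime → r ≠ 2 → r ∣ 2 ^ (2 * m) - 1 → r ∣ Nat.card T ∨ r ∣ 2 ^ e - 1 :=
    fun r hr hr2 hrd => D.bound hce hr hr2 ((hS r hr hr2).2 hrd)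
  have hT : ∀ r : ℕ, r.Prime → r ≠ 2 → r ∣ Nat.card T → r ∣ 2 ^ (2 * m) - 1 :=
    fun r hr hr2 hrd => (hS r hr hr2).1 (D.dvd r hr hr2 hrd)
  have h360 : ∀ r : ℕ, r.Prime → r ∣ 2 ^ 6 * (9 * 5 * 7) → r ≤ 7 := by
    intro r hr hd
    rcases hr.dvd_mul.1 hd with h | h
    · have := Nat.le_of_dvd two_pos (hr.dvd_of_dvd_pow h); omega
    rcases hr.dvd_mul.1 h with h | h
    · rcases hr.dvd_mul.1 h with h | h
      · have := Nat.le_of_dvd (by norm_num) (hr.dvd_of_dvd_pow (show r ∣ 3 ^ 2 from h)); omega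
      · have := Nat.le_of_dvd (by norm_num) h; omega
    · exact Nat.le_of_dvd (by norm_num) h
  have heven : ∀ (K : Type) [Field K] [Fintype K] (n : ℕ), Fintype.card K = 2 ^ n →
      (T ≃* Matrix.ProjectiveSpecialLinearGroup (Fin 2) K) →
      Nonempty (G ⧸ Cfsg.pCore 2 G ≃* Matrix.ProjectiveSpecialLinearGroup (Fin 2) F) := by
    intro K _ _ n hn f
    have hn0 : 0 < n := Nat.pos_of_ne_zero fun e => by
      have := Fintype.one_lt_card (α := K)
      rw [hn, e, pow_zero] at this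
      omega
    obtain ⟨k, hk⟩ := index_of_psl hn f D.cit
    have hnm : n = m := psl_exponent hm hn0 fun p hp hp2 => by
      rw [← hS p hp hp2, ← D.iff_of_index hk hp hp2, card_of_psl hn f, hp.dvd_mul, or_iff_right fun h =>
        hp2 ((Nat.prime_dvd_prime_iff_eq hp Nat.prime_two).1 (hp.dvd_of_dvd_pow h))]
    have htop := eq_top_of_psl hn f D.cit
    obtain ⟨g⟩ := Classical.Small.psl_congr (n := 2)
      (FiniteField.ringEquivOfCardEq (K := K) (K' := F) (by rw [hn, hF, hnm]))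
    exact ⟨(((MulEquiv.subgroupCongr htop).trans Subgroup.topEquiv).symm.trans f).trans g⟩
  rcases D.list with ⟨K, _, _, hK, ⟨f⟩⟩ | ⟨K, _, _, hK, ⟨f⟩⟩ | ⟨K, _, _, v, hv, hK, ⟨f⟩⟩
  · rcases hK with hK | ⟨n, hn⟩ | ⟨hp, k, hk⟩
    · exfalso
      have hT' : Nat.card T * 2 = 720 := by
        have := card_psl_mul_two (F := K)
        rw [hK] at this
        rw [Nat.card_congr f.toEquiv]
        exact this
      have hT'' : Nat.card T = 360 := by omega
      refine small_false hm (fun p hp hpd => h360 p hp ?_) (by rw [hT'']; norm_num) he hed hbnd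
      exact hpd.trans (hT''.symm ▸ by norm_num)
    · exact heven K n hn f
    · by_cases hp2 : Fintype.card K = 2
      · exact heven K 1 (by rw [hp2, pow_one]) f
      exfalso
      have hodd' : Fintype.card K % 2 = 1 := hp.eq_two_or_odd.resolve_left hp2
      have hn : 2 * Nat.card T = Fintype.card K * (Fintype.card K ^ 2 - 1) := by
        have := card_psl_mul_two (F := K)
        rw [Nat.gcd_eq_left (by omega : 2 ∣ Fintype.card K - 1)] at this
        rw [Nat.card_congr f.toEquiv, mul_comm, this]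
      rcases hk with hk | hk
      · by_cases hk2 : 2 ≤ k
        · obtain ⟨rfl, rfl, hno⟩ := fermat_case hm hp hk hk2 hn he hed hbnd hT
          obtain ⟨P, hP⟩ := hce
          have hZ : center (P : Subgroup T) = ⊤ := eq_top_of_card_eq _ (by
            obtain ⟨j, hj⟩ := P.isPGroup'.exists_card_eq
            have h1 : 2 ^ e ∣ 2 ^ j := hP ▸ hj ▸ card_subgroup_dvd_card _
            have hje : j ≤ e := by
              by_contra hlt
              exact hno ((pow_dvd_pow 2 (by omega)).trans (hj ▸ card_subgroup_dvd_card _))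
            have := (Nat.pow_dvd_pow_iff_le_right one_lt_two).1 h1
            rw [hP, hj, (by omega : j = e)])
          obtain ⟨P', -, -, -⟩ := sylow_transfer f P
          refine psl_sylow_not_comm (by omega) hk
            (P.mapSurjective (f := f.toMonoidHom) (show Function.Surjective f.toMonoidHom from f.surjective))
            fun x hx y hy => ?_
          rw [Sylow.coe_mapSurjective] at hx hy
          obtain ⟨a, ha, rfl⟩ := hx
          obtain ⟨b, hb, rfl⟩ := hy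
          rw [← map_mul, ← map_mul]
          exact congrArg f.toMonoidHom (congrArg Subtype.val
            (mem_center_iff.1 (hZ ▸ mem_top (⟨b, hb⟩ : (P : Subgroup T))) ⟨a, ha⟩))
        · have hk1 : k = 1 := by
            rcases k with _ | _ | k
            · rw [pow_zero] at hk; omega
            · rfl
            · omega
          exact mersenne_false (k := 2) hm hp (by rw [hk, hk1]; rfl) hp2 hn he hed hbnd hT
      · exact mersenne_false hm hp hk hp2 hn he hed hbnd hT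
  · exfalso
    have hT' : Nat.card T = 20160 := (Nat.card_congr f.toEquiv).trans (card_psl_three_four hK)
    refine small_false hm (fun p hp hpd => h360 p hp ?_) (by rw [hT']; norm_num) he hed hbnd
    exact hpd.trans (hT'.symm ▸ by norm_num)
  · exfalso
    obtain ⟨g⟩ := Suzuki.nonempty_equiv hv hK
    obtain ⟨k, hk⟩ := index_of_sz hv hK (f.trans g.symm) D.cit
    have h3 := (D.iff_of_index hk Nat.prime_three (by norm_num)).2
      ((hS 3 Nat.prime_three (by norm_num)).2 (three_dvd_sq_pow_sub_one m))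
    rw [Nat.card_congr (f.trans g.symm).toEquiv] at h3
    exact Suzuki.three_not_dvd hv hK h3

include hodd hcls in
theorem sz_recognition {F : Type v} [Field F] [Fintype F] (m : ℕ) (hm : 1 ≤ m)
    (hF : Fintype.card F = 2 ^ (2 * m + 1)) {G : Type u} [Group G] [Finite G]
    (h : ((∀ r : ℕ, r.Prime → (r ∣ Nat.card ↥(Cfsg.Lie.Sz F (2 ^ (m + 1))) ↔ r ∣ Nat.card G)) ∧
      (∀ r s : ℕ, r.Prime → s.Prime → r ≠ s → ((∃ x : ↥(Cfsg.Lie.Sz F (2 ^ (m + 1))), orderOf x = r * s) ↔ (∃ y : G, orderOf y = r * s))))) :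
    Nonempty (G ⧸ Cfsg.pCore 2 G ≃* ↥(Cfsg.Lie.Sz F (2 ^ (m + 1)))) := by
  classical
  obtain ⟨e0⟩ := Suzuki.nonempty_equiv hm hF
  have h' : (∀ r : ℕ, r.Prime → (r ∣ Nat.card (Cfsg.Sz F m) ↔ r ∣ Nat.card G)) ∧
      (∀ r s : ℕ, r.Prime → s.Prime → r ≠ s →
        ((∃ x : Cfsg.Sz F m, orderOf x = r * s) ↔ (∃ y : G, orderOf y = r * s))) :=
    ⟨fun r hr => Nat.card_congr e0.toEquiv ▸ h.1 r hr,
      fun r s hr hs hrs => (orderOf_exists_iff e0 _).trans (h.2 r s hr hs hrs)⟩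
  obtain ⟨i, hi⟩ := Suzuki.even_q hm hF
  have hq8 := Suzuki.eight_le hm hF
  obtain ⟨r, hr, hrd⟩ := Nat.exists_prime_and_dvd (n := Nat.card F - 1) (by omega)
  obtain ⟨s, hs, hsd⟩ := Nat.exists_prime_and_dvd (n := Nat.card F ^ 2 + 1) (by nlinarith)
  have hr2 : r ≠ 2 := fun e => sz_odd_sub_one hm hF (e ▸ hrd)
  obtain ⟨hs2, hs1, -⟩ := Suzuki.prime_facts hm hF hs hsd
  have hrs : r ≠ s := fun e => hs1 (e ▸ hrd)
  have h2S : 2 ∣ Nat.card (Cfsg.Sz F m) := by
    rw [Suzuki.card_sz hm hF]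
    exact (((Suzuki.even_q hm hF).trans (dvd_pow_self _ two_ne_zero)).mul_right _).mul_right _
  obtain ⟨T, D⟩ := exists_socle_data hodd hcls h' h2S (fun p hp hp2 => sz_no_two_mul hm hF hp hp2)
    hr hs hr2 hs2 hrs (by rw [Suzuki.card_sz hm hF]; exact (hrd.mul_left _).mul_right _)
    (by rw [Suzuki.card_sz hm hF]; exact hsd.mul_left _) (sz_nonadjacent hm hF hr hs hrd hsd)
  have hTn := D.normal
  have h3 : ¬ 3 ∣ Nat.card T := fun h3 =>
    Suzuki.three_not_dvd hm hF (D.dvd 3 Nat.prime_three (by norm_num) h3)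
  rcases D.list with ⟨K, _, _, -, ⟨f⟩⟩ | ⟨K, _, _, hK, ⟨f⟩⟩ | ⟨K, _, _, v, hv, hK, ⟨f⟩⟩
  · exact absurd (Nat.card_congr f.toEquiv ▸ three_dvd_psl_two K) h3
  · refine absurd ?_ h3
    rw [Nat.card_congr f.toEquiv, card_psl_three_four hK]
    norm_num
  · obtain ⟨g⟩ := Suzuki.nonempty_equiv hv hK
    let f' : T ≃* Cfsg.Sz K v := f.trans g.symm
    obtain ⟨k, hk⟩ := index_of_sz hv hK f' D.cit
    have hvm : v = m := by
      have := sz_exponent (u := 2 * m + 1) (v := 2 * v + 1) (by omega) (by omega) fun p hp hp2 => by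
        rw [← dvd_card_sz_iff hv hK hp hp2, ← dvd_card_sz_iff hm hF hp hp2,
          ← D.iff_of_index hk hp hp2, Nat.card_congr f'.toEquiv]
      omega
    subst hvm
    obtain ⟨p, hp, hpd, hp4⟩ := exists_prime_three_mod_four (Nat.card K - 1) (by
      rw [Nat.card_eq_fintype_card, hK, pow_succ]
      obtain ⟨j, hj⟩ : 4 ∣ 2 ^ (2 * v) * 2 :=
        (pow_dvd_pow 2 (show 2 ≤ 2 * v by omega)).mul_right 2
      have := Nat.one_le_two_pow (n := 2 * v)
      omega)
    have htop := eq_top_of_sz hv hK f' D.cit hp hp4 hpd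
    obtain ⟨c⟩ := sz_congr hv hK (FiniteField.ringEquivOfCardEq (K := K) (K' := F) (by rw [hK, hF])) hF
    exact ⟨((((MulEquiv.subgroupCongr htop).trans Subgroup.topEquiv).symm.trans f').trans c).trans e0⟩

end Cfsg.Agent.PrimeGraphCIT
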