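import Cfsg.Prelude
import Cfsg.Agent.Suzuki.Basic

/-!
`IsoSuzuki` implies `IsSuzuki`.
-/

set_option autoImplicit false

namespace Cfsg.Agent.PrimeGraphCIT

theorem isSuzuki_of_isoSuzuki {G : Type*} [Group G] (h : Cfsg.Lie.IsoSuzuki G) : Cfsg.IsSuzuki G := by
  obtain ⟨F, iF, iFF, m, hm, hF, ⟨e⟩⟩ := h
  obtain ⟨e'⟩ := Suzuki.nonempty_equiv hm hF
  let f := e.trans e'.symm
  have := Suzuki.isSimple hm hF
  refine ⟨f.isSimpleGroup_congr.2 inferInstance, m, hm, ?_⟩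
  rw [Nat.card_congr f.toEquiv, Suzuki.card_eq hm hF, Nat.card_eq_fintype_card, hF]
  ring

end Cfsg.Agent.PrimeGraphCIT
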